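/-
The transpositions of the presented group on ten generators, named by the points of its action.
-/
import Cfsg.Agent.Lib.Spor.Fi23.Final

set_option autoImplicit false

namespace CfsgLib.Spor.Fi23Out

open CfsgLib.Spor.TC CfsgLib.Spor.Fi23 MulAction

noncomputable section

/-- The group. -/
abbrev Gp : Type := Pres ActF.act.k relsG

/-- The points. -/
abbrev Pt : Type := Fin ActF.act.n

attribute [local instance] actionF

/-- The image of a word. -/
def el (w : List ℕ) : Gp := ev (Act.letters ActF.act relsG) w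

/-- The point fixed by the stabilizer. -/
def pt0 : Pt := ⟨0, by decide +kernel⟩

/-- A letter. -/
def let' (x : ℕ) : Gp := Act.letters ActF.act relsG x

theorem let_sq {x : ℕ} (hx : x < 10) : let' x * let' x = 1 := by
  rw [let', Act.letters_of_lt (show x < ActF.act.k from hx)]
  exact (sat_presGen _ _).sq x

theorem let_smul {x : ℕ} (hx : x < ActF.act.K) (c : Pt) : ((let' x • c : Pt) : ℕ) = ActF.act.T x c :=
  ActF.valid.action_apply hx c

theorem el_smul {w : List ℕ} (hw : ∀ x ∈ w, x < ActF.act.K) (c : Pt) : ((el w • c : Pt) : ℕ) = ActF.act.wact w c := by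
  show ((ActF.valid.rho (el w) c : Pt) : ℕ) = _
  rw [el, map_ev, ev_congr (g' := ActF.valid.perm) fun y _ => ActF.valid.rho_letters y, ActF.valid.wact_eq hw]

theorem el_reverse {w : List ℕ} (hw : ∀ x ∈ w, x < 10) : el w.reverse = (el w)⁻¹ :=
  ev_reverse fun x hx => let_sq (hw x hx)

theorem below_K {w : List ℕ} (hw : ∀ x ∈ w, x < 10) : ∀ x ∈ w, x < ActF.act.K :=
  fun x hx => lt_of_lt_of_le (hw x hx) (Nat.le_add_right _ _)

theorem faithful {g : Gp} (h : ∀ c : Pt, g • c = c) : g = 1 :=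
  rho_injective ((Equiv.ext h).trans (map_one _).symm)

theorem el_eq {w w' : List ℕ} (hw : ∀ x ∈ w, x < ActF.act.K) (hw' : ∀ x ∈ w', x < ActF.act.K)
    (h : ∀ c : Pt, ActF.act.wact w c = ActF.act.wact w' c) : el w = el w' :=
  rho_injective (Equiv.ext fun c => Fin.ext ((el_smul hw c).trans ((h c).trans (el_smul hw' c).symm)))

theorem mem_subH_iff (g : Gp) : g ∈ subH ↔ g • pt0 = pt0 := by
  obtain ⟨S, h0, -, -⟩ := exists_suborbitsF
  have e : S.a = pt0 := Fin.ext h0
  rw [← e]
  exact (S.mem_iff g).symm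

theorem trans_pt (p : Pt) : ∃ g : Gp, g • pt0 = p := by
  obtain ⟨S, h0, -, -⟩ := exists_suborbitsF
  have e : S.a = pt0 := Fin.ext h0
  rw [← e]
  exact S.trans p

theorem commute_zee_iff (g : Gp) : Commute g zee ↔ g • pt0 = pt0 := by
  rw [← mem_subH_iff, ← centralizer_zee, Subgroup.mem_centralizer_singleton_iff]
  rfl

/-- The transposition at a point. -/
def trp (p : Pt) : Gp := (trans_pt p).choose * zee * (trans_pt p).choose⁻¹

theorem trp_eq {p : Pt} {g : Gp} (h : g • pt0 = p) : trp p = g * zee * g⁻¹ := by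
  have hu := (trans_pt p).choose_spec
  rw [trp]
  generalize (trans_pt p).choose = u at hu ⊢
  have hk : Commute (g⁻¹ * u) zee := (commute_zee_iff _).2 (by rw [mul_smul, hu, inv_smul_eq_iff, h])
  calc u * zee * u⁻¹ = g * ((g⁻¹ * u) * zee * (g⁻¹ * u)⁻¹) * g⁻¹ := by group
    _ = g * zee * g⁻¹ := by rw [hk.eq, mul_inv_cancel_right]

theorem trp_pt0 : trp pt0 = zee := by rw [trp_eq (one_smul Gp pt0)]; simp

theorem conj_trp (g : Gp) (p : Pt) : g * trp p * g⁻¹ = trp (g • p) := by
  obtain ⟨u, rfl⟩ := trans_pt p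
  rw [trp_eq (g := u) rfl, trp_eq (g := g * u) (mul_smul g u pt0), mul_inv_rev]
  group

theorem trp_sq (p : Pt) : trp p * trp p = 1 := by
  obtain ⟨u, rfl⟩ := trans_pt p
  rw [trp_eq (g := u) rfl, show u * zee * u⁻¹ * (u * zee * u⁻¹) = u * (zee * zee) * u⁻¹ by group, zee_sq, mul_one,
    mul_inv_cancel]

theorem trp_ne_one (p : Pt) : trp p ≠ 1 := by
  obtain ⟨u, rfl⟩ := trans_pt p
  rw [trp_eq (g := u) rfl]
  intro h
  exact zee_ne (conj_eq_one_iff.1 h)

theorem trp_inj {p q : Pt} (h : trp p = trp q) : p = q := by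
  obtain ⟨u, rfl⟩ := trans_pt p
  obtain ⟨v, rfl⟩ := trans_pt q
  rw [trp_eq (g := u) rfl, trp_eq (g := v) rfl] at h
  have hk : Commute (v⁻¹ * u) zee := by
    show v⁻¹ * u * zee = zee * (v⁻¹ * u)
    calc v⁻¹ * u * zee = v⁻¹ * (u * zee * u⁻¹) * u := by group
      _ = v⁻¹ * (v * zee * v⁻¹) * u := by rw [h]
      _ = zee * (v⁻¹ * u) := by group
  have := (commute_zee_iff _).1 hk
  rwa [mul_smul, inv_smul_eq_iff] at this

theorem commute_trp_iff (g : Gp) (p : Pt) : Commute g (trp p) ↔ g • p = p := by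
  constructor
  · intro h
    refine trp_inj ?_
    rw [← conj_trp, h.eq, mul_inv_cancel_right]
  · intro h
    have := conj_trp g p
    rw [h] at this
    exact (eq_mul_inv_iff_mul_eq.1 this.symm).symm

theorem trp_fix_comm (p q : Pt) : trp p • q = q ↔ trp q • p = p := by
  rw [← commute_trp_iff, ← commute_trp_iff]
  exact ⟨Commute.symm, Commute.symm⟩

theorem trp_fix_smul (g : Gp) (p q : Pt) : trp (g • p) • (g • q) = g • q ↔ trp p • q = q := by
  rw [← conj_trp, mul_smul, mul_smul, inv_smul_smul, smul_left_cancel_iff]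

/-- The transposition at the image of a word. -/
theorem trp_word {u : List ℕ} (hu : ∀ x ∈ u, x < 10) {p : Pt} (hp : ActF.act.wact u 0 = p) :
    trp p = el (u ++ 10 :: u.reverse) := by
  have h : el u • pt0 = p := Fin.ext ((el_smul (below_K hu) pt0).trans hp)
  rw [trp_eq h, show el (u ++ 10 :: u.reverse) = el u * (zee * el u.reverse) by
    simp only [el, ev_append, ev_cons]; rfl, el_reverse hu, mul_assoc]

theorem isOrbit_eq {H : Subgroup Gp} {p : Pt} (h : ∀ g ∈ H, g • p = p) : (orbit H p).ncard = 1 := by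
  refine Set.ncard_eq_one.2 ⟨p, Set.ext fun q => ⟨?_, ?_⟩⟩
  · rintro ⟨g, rfl⟩; exact h g g.2
  · rintro rfl; exact mem_orbit_self _

theorem eq_pt0_of_fixed {p : Pt} (h : ∀ g ∈ subH, g • p = p) : p = pt0 := by
  obtain ⟨S, h0, hsz, hrep⟩ := exists_suborbitsF
  obtain ⟨i, hi⟩ := S.cover p
  have h1 := isOrbit_eq h
  have e1 : orbit subH p = orbit subH (S.rep i) := orbit_eq_iff.2 hi
  rw [e1, S.orbit_size i, hsz i] at h1
  fin_cases i
  · obtain ⟨⟨g, hg⟩, rfl⟩ := hi
    show g • S.rep 0 = pt0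
    rw [hrep, show S.a = pt0 from Fin.ext h0]
    exact (mem_subH_iff g).1 hg
  · exact absurd h1 (by decide)
  · exact absurd h1 (by decide)

theorem centralizer_subH {t : Gp} (h : ∀ g ∈ subH, Commute g t) : t = 1 ∨ t = zee := by
  have ht : t ∈ subH := by
    refine (mem_subH_iff t).2 (eq_pt0_of_fixed fun g hg => ?_)
    rw [← mul_smul, (h g hg).eq, mul_smul, (mem_subH_iff g).1 hg]
  rw [← range_nine] at ht
  obtain ⟨v, rfl⟩ := ht
  have hv : v ∈ Subgroup.center (Pres 9 relsH) := Subgroup.mem_center_iff.2 fun y => card_nine.2 (by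
    rw [map_mul, map_mul]
    exact (h (nine y) (by rw [← range_nine]; exact ⟨y, rfl⟩)).eq)
  have h2 := (Nat.card_eq_two_iff' (⟨_, nine_center.1⟩ : Subgroup.center (Pres 9 relsH))).1 nonsplit.1
  by_cases hz : v = ev (presGen 9 relsH) wordE ^ 9
  · exact Or.inr (by rw [hz, ← zee_eq])
  · refine Or.inl ?_
    obtain ⟨y, -, hy⟩ := h2
    have e1 := hy ⟨v, hv⟩ (fun e => hz (congrArg Subtype.val e))
    have e2 := hy 1 (fun e => nine_center.2 (congrArg Subtype.val e).symm)
    rw [show v = 1 from congrArg Subtype.val (e1.trans e2.symm)]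
    exact map_one nine

end

end CfsgLib.Spor.Fi23Out
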