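/-
Points, words and orbit certificates in the action on 31671 points, found by a computer search.
-/
import Mathlib.Tactic.Common

namespace CfsgLib.Spor.Fi23Out

/-- The points of the ten generators and of the central transposition of the stabilizer. -/
def pts : List ℕ := [11589, 8004, 8003, 8000, 8001, 8002, 8005, 8006, 7999, 8007, 0]

/-- A word of order thirteen. -/
def xw : List ℕ := [4, 3, 0, 2, 1, 8, 9, 5]

/-- The neighbours of the first point with a fixed pattern along their cycle. -/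
def sigSet : List ℕ := [
    52, 106, 231, 376, 597, 886, 1221, 1337, 1371, 1472, 1875, 2014, 2908, 3623, 4672, 8271, 8756, 9817, 
    10074, 12045, 12137, 12160, 12162, 12750, 13094, 14208, 14229, 14297, 14310, 15313, 15348, 15812, 16041, 
    16421, 17517, 18131, 18509, 18586, 20385]

/-- One cycle among them. -/
def oddOrbit : List ℕ := [52, 597, 3623, 16421, 17517, 15812, 14229, 13094, 20385, 12750, 2014, 376, 106]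

/-- Derivations: a word to a known point and a known point to be moved. -/
def closRows : List (List ℕ × ℕ) := [
    ([4, 5, 3, 4, 2, 3, 8, 9, 7, 6, 5, 3, 4, 1, 2, 3, 8, 0, 1, 2, 3, 4, 5, 6, 7], 52), 
    ([8, 9, 3, 8, 3, 4, 5, 2, 3, 4, 1, 2, 3, 8, 9, 8, 7, 6, 5, 3, 4, 1, 2, 3, 8, 0, 1, 2, 3, 4, 5, 6, 7], 52), 
    ([9, 5, 4, 2, 3, 8, 4, 5, 2, 3, 4, 1, 2, 3, 8, 9, 7, 6, 5, 4, 1, 2, 3, 8, 0, 1, 2, 3, 4, 5, 6, 7], 52), 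
    ([9, 3, 8, 5, 2, 3, 4, 0, 1, 2, 3, 8, 9, 7, 6, 4, 5, 3, 4, 1, 2, 3, 8, 0, 1, 2, 3, 4, 5, 6, 7], 52), 
    ([8, 9, 7, 6, 5, 4, 1, 2, 3, 8, 0, 1, 2, 3, 4, 5, 6, 7], 52), 
    ([8, 9, 7, 6, 5, 4, 1, 2, 3, 8, 0, 1, 2, 3, 4, 5, 6, 7], 3623), 
    ([9, 5, 4, 2, 3, 8, 4, 5, 2, 3, 4, 1, 2, 3, 8, 9, 7, 6, 5, 4, 1, 2, 3, 8, 0, 1, 2, 3, 4, 5, 6, 7], 2672), 
    ([8, 9, 4, 3, 8, 4, 5, 2, 3, 4, 0, 1, 2, 3, 8, 9, 8, 7, 6, 5, 2, 3, 4, 1, 2, 3, 8, 0, 1, 2, 3, 4, 5, 6, 7], 2672), 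
    ([8, 9, 7, 6, 5, 4, 1, 2, 3, 8, 0, 1, 2, 3, 4, 5, 6, 7], 19570), 
    ([9, 3, 8, 5, 2, 3, 4, 0, 1, 2, 3, 8, 9, 7, 6, 4, 5, 3, 4, 1, 2, 3, 8, 0, 1, 2, 3, 4, 5, 6, 7], 12773), 
    ([8, 9, 7, 6, 5, 4, 1, 2, 3, 8, 0, 1, 2, 3, 4, 5, 6, 7], 12773), 
    ([9, 5, 4, 2, 3, 8, 4, 5, 2, 3, 4, 1, 2, 3, 8, 9, 7, 6, 5, 4, 1, 2, 3, 8, 0, 1, 2, 3, 4, 5, 6, 7], 13865), 
    ([5, 6, 4, 5, 2, 3, 4, 0, 1, 2, 3, 8, 9, 8, 7, 6, 5, 2, 3, 4, 1, 2, 3, 8, 0, 1, 2, 3, 4, 5, 6, 7], 1018), 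
    ([5, 6, 4, 5, 2, 3, 4, 0, 1, 2, 3, 8, 9, 8, 7, 6, 5, 2, 3, 4, 1, 2, 3, 8, 0, 1, 2, 3, 4, 5, 6, 7], 12104), 
    ([5, 6, 4, 5, 2, 3, 4, 0, 1, 2, 3, 8, 9, 8, 7, 6, 5, 2, 3, 4, 1, 2, 3, 8, 0, 1, 2, 3, 4, 5, 6, 7], 12109), 
    ([9, 7, 6, 5, 4, 3, 8, 1, 2, 3, 4, 5, 6, 7], 596), 
    ([4, 3, 8, 4, 5, 2, 3, 4, 0, 1, 2, 3, 8, 9, 8, 7, 6, 5, 2, 3, 4, 1, 2, 3, 8, 0, 1, 2, 3, 4, 5, 6, 7], 15341), 
    ([1, 2, 3, 8, 4, 5, 2, 3, 4, 1, 2, 3, 8, 9, 7, 6, 5, 3, 4, 1, 2, 3, 8, 0, 1, 2, 3, 4, 5, 6, 7], 15341), 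
    ([4, 3, 8, 9, 7, 6, 5, 4, 2, 3, 8, 0, 1, 2, 3, 4, 5, 6, 7], 778), 
    ([5, 6, 4, 5, 2, 3, 4, 0, 1, 2, 3, 8, 9, 8, 7, 6, 5, 2, 3, 4, 1, 2, 3, 8, 0, 1, 2, 3, 4, 5, 6, 7], 2517), 
    ([4, 3, 8, 9, 7, 6, 5, 4, 2, 3, 8, 0, 1, 2, 3, 4, 5, 6, 7], 1011), 
    ([1, 2, 3, 8, 9, 8, 7, 6, 5, 3, 4, 1, 2, 3, 8, 0, 1, 2, 3, 4, 5, 6, 7], 4988), 
    ([1, 2, 3, 8, 9, 8, 7, 6, 5, 3, 4, 1, 2, 3, 8, 0, 1, 2, 3, 4, 5, 6, 7], 271), 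
    ([1, 2, 3, 8, 9, 8, 7, 6, 5, 3, 4, 1, 2, 3, 8, 0, 1, 2, 3, 4, 5, 6, 7], 2730), 
    ([4, 5, 3, 4, 2, 3, 8, 9, 7, 6, 5, 3, 4, 1, 2, 3, 8, 0, 1, 2, 3, 4, 5, 6, 7], 190), 
    ([9, 7, 6, 5, 4, 3, 8, 1, 2, 3, 4, 5, 6, 7], 72), 
    ([8, 9, 4, 3, 8, 4, 5, 2, 3, 4, 0, 1, 2, 3, 8, 9, 8, 7, 6, 5, 2, 3, 4, 1, 2, 3, 8, 0, 1, 2, 3, 4, 5, 6, 7], 18523), 
    ([9, 7, 6, 5, 4, 3, 8, 1, 2, 3, 4, 5, 6, 7], 154), 
    ([9, 3, 8, 5, 2, 3, 4, 0, 1, 2, 3, 8, 9, 7, 6, 4, 5, 3, 4, 1, 2, 3, 8, 0, 1, 2, 3, 4, 5, 6, 7], 14988)]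

/-- Words of transpositions in step 0. -/
def gens0 : List (List ℕ) := [
    [6, 4, 5, 3, 4, 0, 1, 2, 3, 8, 9, 7, 6, 5, 4, 3, 8, 0, 1, 2, 3, 4, 5, 6, 7], 
    [4, 3, 8, 6, 7, 5, 6, 4, 5, 3, 4, 2, 3, 8, 0, 1, 2, 3, 4, 5, 6, 7], 
    [5, 4, 3, 8, 9, 6, 7, 5, 6, 4, 5, 3, 4, 1, 2, 3, 8, 0, 1, 2, 3, 4, 5, 6, 7], 
    [5, 4, 1, 2, 3, 8, 9, 8, 6, 7, 5, 6, 4, 5, 3, 4, 1, 2, 3, 8, 0, 1, 2, 3, 4, 5, 6, 7], 
    [6, 4, 5, 3, 4, 2, 3, 8, 9, 7, 6, 5, 4, 3, 8, 1, 2, 3, 4, 5, 6, 7], 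
    [3, 8, 9, 5, 6, 7, 4, 5, 6, 3, 4, 5, 2, 3, 4, 1, 2, 3, 8, 0, 1, 2, 3, 4, 5, 6, 7], 
    [0, 1, 2, 3, 8, 9, 6, 7, 5, 6, 3, 4, 5, 2, 3, 4, 1, 2, 3, 8, 0, 1, 2, 3, 4, 5, 6, 7]]

/-- The orbit tree of step 0. -/
def rows0 : List (ℕ × ℕ) := [
    (0, 11589), (1, 11589), (3, 11589), (4, 11589), (6, 11589), (1, 3135), (2, 3135), (3, 3135), (4, 3135), 
    (6, 3135), (0, 1238), (2, 1238), (3, 1238), (5, 1238), (6, 1238), (0, 6297), (2, 6297), (5, 6297), 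
    (6, 6297), (0, 2328), (2, 2328), (6, 2328), (2, 5298), (3, 5298), (4, 5298), (5, 5298), (0, 621), 
    (3, 621), (5, 621), (6, 621), (3, 4134), (0, 9715), (2, 9715), (5, 9715), (0, 3316), (5, 4133), (4, 800), 
    (5, 800), (6, 800), (4, 3142), (5, 3142), (4, 2665), (6, 7107), (3, 4279), (4, 4279), (5, 4279), 
    (2, 9769), (4, 9769), (5, 9769), (6, 9769), (0, 1123), (4, 1123), (5, 1123), (6, 1123), (6, 1716), 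
    (2, 7106), (3, 7106), (4, 7106), (5, 7106), (1, 2514), (3, 2514), (6, 2514), (3, 8708), (3, 3155), 
    (4, 3155), (5, 3155), (0, 2349), (1, 2349), (3, 2349), (5, 2349), (2, 5698), (5, 5698), (1, 3840), 
    (5, 3840), (1, 3845), (3, 3845), (2, 2904), (5, 2904), (6, 2904), (2, 5692), (4, 5692), (4, 4964), 
    (4, 5289), (5, 5289), (5, 5347), (4, 1364), (5, 1364), (6, 429), (2, 8004), (3, 1969), (5, 1969), 
    (1, 8062), (3, 8062), (6, 8062), (3, 2350), (5, 2350), (0, 3321), (3, 3321), (5, 3321), (1, 3165), 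
    (3, 3165), (2, 4967), (6, 4967), (3, 6509), (4, 6509), (5, 6509), (4, 3157), (1, 2905), (3, 2905), 
    (5, 2905), (1, 1880), (1, 1700), (5, 1700), (5, 5695), (6, 5695), (1, 560), (3, 560), (6, 560), (4, 2522), 
    (5, 2522), (3, 6512), (5, 6512), (1, 7110), (3, 7110), (4, 5349), (5, 2901), (0, 2666), (1, 2666), 
    (5, 2666), (1, 1240), (2, 1043), (3, 1043), (5, 1043), (6, 1043), (2, 8056), (5, 8056), (6, 8056), 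
    (5, 6538), (4, 6623), (5, 6623), (6, 6623), (1, 5262), (5, 5262), (1, 5233), (4, 1559), (5, 1559), 
    (3, 4109), (4, 4109), (4, 5688), (6, 5350), (4, 2346), (5, 2346), (0, 5258), (3, 4111), (6, 4111), 
    (3, 1124), (0, 1380), (4, 1380), (3, 6552), (4, 6552), (5, 6552), (3, 3521), (4, 6537), (6, 2142), 
    (5, 2513), (1, 5689), (6, 2145), (1, 8001), (5, 8001), (1, 4232), (4, 6291), (2, 1717), (6, 1717), 
    (6, 4525), (2, 2528), (6, 2528), (2, 4233), (6, 4233), (3, 3152), (4, 3152), (5, 5299), (3, 3852), 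
    (5, 2144), (5, 993), (3, 6522), (6, 6522), (0, 5690), (3, 5690), (4, 3318), (3, 2351), (5, 3515), 
    (0, 1972), (1, 1972), (2, 1972), (5, 1972), (1, 885), (2, 883), (3, 2352), (2, 6505), (5, 6505), 
    (3, 4971), (6, 4971), (3, 3317), (2, 2906), (4, 2906), (6, 5256), (1, 1718), (2, 1718), (5, 1718), 
    (5, 3130), (3, 1558), (6, 1558), (3, 2520), (4, 6523), (1, 3846), (2, 3846), (5, 3841), (3, 1874), 
    (6, 1874), (5, 4131), (6, 4139), (6, 6630), (5, 1719), (5, 4132), (6, 743), (5, 3156), (1, 8003), 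
    (3, 8003), (5, 3839), (1, 1237), (3, 7834), (6, 7834), (0, 1890), (2, 1890), (1, 3518), (5, 3518), 
    (1, 5699), (3, 5699), (6, 5699), (0, 5240), (5, 5240), (6, 9592), (4, 7999), (5, 707), (1, 5237), 
    (3, 9771), (0, 4234), (2, 4234), (4, 4234), (2, 5257), (2, 2343), (4, 2343), (2, 3851), (6, 3851), 
    (5, 6292), (4, 884), (5, 1864), (3, 4116), (6, 4116), (3, 6539), (6, 6539), (0, 1375), (2, 8057), 
    (5, 1370), (4, 3847), (4, 6290), (4, 5288), (4, 9768), (4, 620), (1, 6295), (3, 6295), (6, 6295), 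
    (1, 3844), (3, 3844), (6, 3844), (0, 5351), (2, 5351), (4, 5351), (2, 4522), (5, 2330), (0, 4517), 
    (2, 4517), (6, 4517), (5, 4524), (1, 2897), (5, 2897), (3, 6524), (5, 6524), (6, 6524), (3, 2341), 
    (6, 2341), (5, 2143), (3, 1871), (4, 2898), (1, 4137), (2, 8061), (4, 8061), (5, 6553), (1, 3138), 
    (6, 3138), (6, 5694), (3, 1889), (4, 799), (2, 984), (6, 984), (3, 4965), (6, 5697), (0, 3137), (2, 8055), 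
    (3, 2543), (5, 4236), (5, 2342), (3, 3514), (3, 2138), (4, 6296), (0, 2524), (2, 2524), (3, 5353), 
    (4, 5353), (6, 5353), (5, 4242), (2, 2516), (5, 2326), (4, 1698), (2, 1239), (0, 3158), (1, 3158), 
    (3, 6526), (2, 3153), (6, 3349), (2, 1388), (6, 4138), (0, 5286), (2, 5286), (3, 5286), (6, 5286), 
    (0, 1714), (1, 4968), (1, 2525), (5, 4275), (6, 2139), (4, 4135), (2, 6627), (0, 1226), (3, 494), 
    (6, 494), (5, 873), (0, 3322), (3, 8063), (3, 2902)]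

/-- Words of transpositions in step 1. -/
def gens1 : List (List ℕ) := [
    [8, 3, 4, 2, 3, 8, 5, 6, 4, 5, 3, 4, 2, 3, 8, 9, 7, 6, 5, 4, 3, 8, 2, 3, 4, 5, 6, 7], 
    [4, 3, 8, 9, 8, 6, 7, 5, 6, 4, 5, 3, 4, 1, 2, 3, 8, 0, 1, 2, 3, 4, 5, 6, 7], 
    [2, 3, 8, 9, 6, 7, 5, 6, 3, 4, 5, 2, 3, 4, 1, 2, 3, 8, 0, 1, 2, 3, 4, 5, 6, 7], 
    [2, 3, 8, 9, 5, 6, 7, 4, 5, 6, 3, 4, 5, 2, 3, 4, 1, 2, 3, 8, 0, 1, 2, 3, 4, 5, 6, 7], 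
    [4, 5, 3, 4, 2, 3, 8, 9, 6, 7, 5, 6, 4, 5, 3, 4, 1, 2, 3, 8, 0, 1, 2, 3, 4, 5, 6, 7], 
    [4, 3, 8, 9, 6, 7, 4, 5, 6, 3, 4, 5, 2, 3, 4, 1, 2, 3, 8, 0, 1, 2, 3, 4, 5, 6, 7]]

/-- The orbit tree of step 1. -/
def rows1 : List (ℕ × ℕ) := [
    (1, 8004), (2, 8004), (3, 8004), (4, 8004), (0, 2904), (2, 2904), (4, 2904), (5, 2904), (3, 5298), 
    (2, 6292), (5, 6292), (0, 8707), (1, 8707), (5, 8707), (2, 2145), (5, 2145), (3, 2352), (4, 2352), 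
    (5, 2352), (1, 4116), (2, 4116), (3, 4116), (3, 3157), (1, 3316), (2, 3316), (4, 3316), (5, 3316), 
    (4, 4109), (5, 4109), (4, 993), (5, 7110), (3, 3138), (3, 3162), (4, 3162), (5, 3162), (1, 2343), 
    (3, 2343), (4, 2343), (1, 3142), (5, 3142), (0, 3846), (2, 3846), (5, 3846), (3, 6512), (4, 6512), 
    (0, 5261), (2, 5261), (5, 5261), (5, 1872), (2, 3839), (0, 621), (2, 621), (5, 621), (5, 3155), (0, 1714), 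
    (1, 2326), (0, 2140), (1, 2140), (5, 2140), (3, 1700), (4, 1700), (0, 7108), (1, 7108), (2, 7108), 
    (4, 1124), (2, 4108), (1, 2330), (4, 2330), (5, 2330), (0, 1559), (1, 1559), (3, 1559), (1, 6627), 
    (3, 6627), (4, 1871), (2, 4966), (0, 8708), (4, 3850), (1, 2905), (2, 2905), (5, 2905), (5, 560), 
    (1, 3161), (3, 3161), (4, 3161), (2, 1122), (1, 5260), (2, 4134), (3, 2903), (5, 2903), (3, 5699), 
    (2, 429), (4, 429), (5, 429), (5, 3849), (4, 7106), (1, 2142), (3, 2142), (4, 2142), (1, 1237), (0, 3156), 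
    (1, 2900), (5, 2900), (0, 9714), (3, 3519), (4, 3519), (1, 4139), (0, 6506), (2, 6506), (2, 8706), 
    (2, 3843), (2, 4137), (0, 2345), (5, 2345), (2, 4135), (1, 4970), (3, 2141), (5, 1865), (2, 1719), 
    (5, 1719), (3, 984), (4, 984), (1, 1560), (2, 1560), (4, 1560), (2, 7105), (3, 7105), (4, 8054), 
    (1, 2347), (2, 2347), (2, 3840), (3, 3840), (5, 3840), (5, 800), (1, 2351), (3, 2351), (0, 5238), 
    (4, 884), (0, 6295), (3, 2144), (4, 2144), (4, 3137), (5, 3137), (2, 6540), (1, 6509), (0, 9715), 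
    (0, 6296), (0, 1867), (3, 1867), (4, 1867), (5, 1867), (1, 4519), (3, 4519), (4, 4519), (4, 9771), 
    (0, 2899), (0, 5347), (1, 7991), (2, 7991), (3, 2901), (5, 1715), (4, 6526), (2, 2348), (5, 2348), 
    (3, 2513), (5, 4964), (0, 8062), (2, 8062), (5, 8062), (2, 3164), (0, 8055), (3, 2514), (4, 2514), 
    (5, 2514), (2, 3135), (5, 3135), (3, 1717), (1, 5698), (4, 5698), (3, 1123), (4, 1123), (1, 5240), 
    (1, 1238), (1, 2520), (5, 2520), (2, 2907), (5, 2907), (1, 3847), (4, 3847), (3, 5234), (4, 7990), 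
    (1, 4976), (5, 2350), (2, 3848), (5, 3848), (2, 4965), (1, 3851), (0, 3165), (2, 3165), (2, 695), 
    (5, 695), (4, 4277), (2, 2902), (2, 7995), (4, 6291), (5, 6291), (2, 2346), (3, 6297), (4, 6297), 
    (2, 6552), (5, 5262), (2, 8060), (5, 2349), (5, 2519), (5, 1720), (2, 4141), (3, 7109), (5, 3132), 
    (1, 2515), (3, 7107), (4, 2898), (3, 8063), (5, 885)]

/-- Words of transpositions in step 2. -/
def gens2 : List (List ℕ) := [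
    [8, 9, 6, 7, 5, 6, 3, 4, 5, 2, 3, 4, 1, 2, 3, 8, 0, 1, 2, 3, 4, 5, 6, 7], 
    [5, 4, 3, 8, 9, 6, 7, 5, 6, 4, 5, 2, 3, 4, 1, 2, 3, 8, 0, 1, 2, 3, 4, 5, 6, 7], 
    [3, 8, 9, 5, 6, 7, 4, 5, 6, 3, 4, 5, 2, 3, 4, 1, 2, 3, 8, 0, 1, 2, 3, 4, 5, 6, 7], 
    [8, 4, 5, 2, 3, 4, 1, 2, 3, 8, 6, 7, 5, 6, 4, 5, 3, 4, 2, 3, 8, 1, 2, 3, 4, 5, 6, 7], 
    [2, 3, 8, 9, 4, 3, 8, 6, 7, 5, 6, 4, 5, 3, 4, 1, 2, 3, 8, 0, 1, 2, 3, 4, 5, 6, 7]]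

/-- The orbit tree of step 2. -/
def rows2 : List (ℕ × ℕ) := [
    (1, 8003), (2, 8003), (3, 8003), (4, 8003), (3, 5353), (4, 5353), (0, 6538), (4, 6538), (0, 6525), 
    (4, 6525), (1, 4516), (2, 4516), (0, 6630), (2, 6630), (4, 6630), (1, 2666), (2, 2666), (3, 6555), 
    (4, 6555), (1, 494), (2, 494), (2, 4242), (4, 4242), (1, 3515), (2, 3515), (0, 707), (3, 707), (2, 1969), 
    (4, 1969), (0, 1043), (4, 1043), (1, 1971), (2, 1971), (0, 1874), (3, 1874), (2, 5691), (4, 5691), 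
    (1, 3516), (2, 3516), (0, 6541), (3, 6541), (1, 4518), (3, 4518), (1, 1873), (2, 4275), (1, 6554), 
    (3, 6554), (0, 4525), (1, 4525), (3, 4525), (1, 4234), (3, 3348), (4, 3348), (3, 4524), (1, 4133), 
    (1, 2665), (0, 1373), (3, 5694), (4, 5694), (2, 743), (0, 2668), (3, 1042), (0, 5299), (1, 3518), 
    (3, 1442), (4, 2667), (0, 3520), (4, 3521), (3, 4515), (2, 4520), (4, 4520), (0, 8056), (3, 8056), 
    (3, 5695), (0, 1440), (2, 1972), (2, 3319), (2, 1375), (0, 2341), (0, 2663)]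

/-- Words of transpositions in step 3. -/
def gens3 : List (List ℕ) := [
    [3, 8, 5, 2, 3, 4, 1, 2, 3, 8, 6, 7, 5, 6, 4, 5, 3, 4, 2, 3, 8, 1, 2, 3, 4, 5, 6, 7], 
    [3, 4, 2, 3, 8, 5, 6, 4, 5, 3, 4, 2, 3, 8, 9, 7, 6, 5, 4, 3, 8, 2, 3, 4, 5, 6, 7], 
    [9, 6, 7, 4, 5, 6, 3, 4, 5, 2, 3, 4, 1, 2, 3, 8, 0, 1, 2, 3, 4, 5, 6, 7], 
    [9, 5, 6, 7, 4, 5, 6, 3, 4, 5, 2, 3, 4, 1, 2, 3, 8, 0, 1, 2, 3, 4, 5, 6, 7], 
    [8, 9, 5, 6, 7, 4, 5, 6, 3, 4, 5, 2, 3, 4, 1, 2, 3, 8, 0, 1, 2, 3, 4, 5, 6, 7]]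

/-- The orbit tree of step 3. -/
def rows3 : List (ℕ × ℕ) := [
    (0, 8000), (1, 8000), (4, 8000), (1, 6523), (2, 6523), (4, 6523), (3, 5287), (2, 4233), (3, 1388), 
    (4, 1388), (3, 6539), (2, 6522), (3, 1889), (4, 5257), (3, 4279), (2, 5256), (0, 4236), (4, 3320), 
    (1, 5300), (3, 5300), (2, 4131), (0, 3349), (1, 2542), (3, 5349), (2, 1890), (0, 5689), (2, 1387), 
    (0, 4243), (0, 4276)]

/-- Candidates for generator 4. -/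
def cands4 : List ℕ := [1380, 1880, 2528, 3322, 4235, 6524, 6537, 7999, 8001]

/-- Candidates for generator 5. -/
def cands5 : List ℕ := [1877, 2524, 2525, 3321, 8002, 8007]

/-- Candidates for generator 6. -/
def cands6 : List ℕ := [1378, 1878, 6529, 8005]

/-- Candidates for generator 8. -/
def cands8 : List ℕ := [1380, 1880, 2528, 3322, 4235, 6524, 6537, 7999, 8001]

/-- Candidates for generator 9. -/
def cands9 : List ℕ := [1877, 2524, 2525, 3321, 8002, 8007]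

/-- Words of transpositions in the last step. -/
def gensF : List (List ℕ) := [
    [6, 7, 4, 5, 6, 3, 4, 5, 2, 3, 4, 1, 2, 3, 8, 0, 1, 2, 3, 4, 5, 6, 7], 
    [5, 6, 7, 4, 5, 6, 3, 4, 5, 2, 3, 4, 1, 2, 3, 8, 0, 1, 2, 3, 4, 5, 6, 7], 
    [9, 6, 7, 4, 5, 6, 3, 4, 5, 2, 3, 4, 1, 2, 3, 8, 0, 1, 2, 3, 4, 5, 6, 7], 
    [9, 5, 6, 7, 4, 5, 6, 3, 4, 5, 2, 3, 4, 1, 2, 3, 8, 0, 1, 2, 3, 4, 5, 6, 7], 
    [4, 3, 8, 2, 3, 4, 1, 2, 3, 8, 6, 7, 5, 6, 4, 5, 3, 4, 2, 3, 8, 1, 2, 3, 4, 5, 6, 7], 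
    [8, 3, 4, 2, 3, 8, 5, 6, 4, 5, 3, 4, 2, 3, 8, 9, 7, 6, 5, 4, 3, 8, 2, 3, 4, 5, 6, 7]]

/-- Products in the last step and the points they reach. -/
def finalRows : List (List ℕ × List ℕ) := [
    ([], [8001, 8002, 8005, 7999, 8007]), ([0], [1380, 2524, 1378, 7999, 2525]), 
    ([1], [8001, 1877, 8005, 7999, 3321]), ([2], [1880, 3321, 1878, 3322, 1877]), 
    ([3], [8001, 2525, 8005, 4235, 2524]), ([4], [6524, 8002, 6529, 7999, 8007]), 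
    ([5], [8001, 8002, 8005, 6537, 8007]), ([1, 0], [6524, 2524, 6529, 7999, 2525]), 
    ([2, 0], [1380, 2524, 1378, 3322, 2525]), ([3, 0], [1380, 8007, 1378, 4235, 8002]), 
    ([4, 0], [1380, 1877, 1378, 7999, 3321]), ([5, 0], [1880, 3321, 1878, 6537, 1877]), 
    ([2, 1], [1880, 8007, 1878, 3322, 8002]), ([3, 1], [8001, 1877, 8005, 4235, 3321]), 
    ([5, 1], [8001, 2525, 8005, 6537, 2524]), ([3, 2], [6524, 3321, 6529, 3322, 1877]), 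
    ([4, 2], [1880, 2525, 1878, 4235, 2524]), ([5, 4], [6524, 8002, 6529, 6537, 8007]), 
    ([2, 1, 0], [6524, 2524, 6529, 3322, 2525]), ([3, 1, 0], [1880, 8007, 1878, 4235, 8002]), 
    ([5, 1, 0], [6524, 3321, 6529, 6537, 1877]), ([3, 2, 0], [1380, 8007, 1378, 3322, 8002]), 
    ([4, 2, 0], [1380, 1877, 1378, 4235, 3321]), ([5, 4, 0], [1880, 2525, 1878, 6537, 2524])]

end CfsgLib.Spor.Fi23Out
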