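/-
The generators as transpositions, and tests for commuting transpositions.
-/
import Cfsg.Agent.Lib.Spor.Fi23Out.Base
import Cfsg.Agent.Lib.Spor.Fi23Out.Data

set_option autoImplicit false

namespace CfsgLib.Spor.Fi23Out

open CfsgLib.Spor.TC CfsgLib.Spor.Fi23 MulAction

noncomputable section

attribute [local instance] actionF

/-- The point of a generator, as a number. -/
def ptN (x : ℕ) : ℕ := pts.getD x 0

theorem ptN_lt (x : ℕ) : ptN x < ActF.act.n := by
  have h : ∀ p ∈ pts, p < 31671 := by decide
  unfold ptN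
  by_cases hx : x < pts.length
  · rw [List.getD_eq_getElem _ _ hx]; exact h _ (List.getElem_mem hx)
  · rw [List.getD_eq_default _ _ (Nat.not_lt.1 hx)]; exact Nat.lt_of_sub_pos (by decide +kernel)

/-- The point of a generator. -/
def gpt (x : ℕ) : Pt := ⟨ptN x, ptN_lt x⟩

/-- The test of the braid between two letters at one point. -/
def braidAt (c : ℕ) : Bool :=
  Nat.beq (ActF.act.wact [10, 7, 10] c) (ActF.act.wact [7, 10, 7] c)

theorem braid_0 : allFrom braidAt 0 4000 = true := by decide +kernel
theorem braid_1 : allFrom braidAt 4000 4000 = true := by decide +kernel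
theorem braid_2 : allFrom braidAt 8000 4000 = true := by decide +kernel
theorem braid_3 : allFrom braidAt 12000 4000 = true := by decide +kernel
theorem braid_4 : allFrom braidAt 16000 4000 = true := by decide +kernel
theorem braid_5 : allFrom braidAt 20000 4000 = true := by decide +kernel
theorem braid_6 : allFrom braidAt 24000 4000 = true := by decide +kernel
theorem braid_7 : allFrom braidAt 28000 3671 = true := by decide +kernel

theorem braid_all (c : ℕ) (hc : c < 31671) : braidAt c = true := by
  rcases (show c < 4000 ∨ (4000 ≤ c ∧ c < 8000) ∨ (8000 ≤ c ∧ c < 12000) ∨ (12000 ≤ c ∧ c < 16000) ∨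
      (16000 ≤ c ∧ c < 20000) ∨ (20000 ≤ c ∧ c < 24000) ∨ (24000 ≤ c ∧ c < 28000) ∨ 28000 ≤ c by omega) with
    h | h | h | h | h | h | h | h
  · exact allFrom_spec braid_0 c (Nat.zero_le _) (by omega)
  · exact allFrom_spec braid_1 c h.1 (by omega)
  · exact allFrom_spec braid_2 c h.1 (by omega)
  · exact allFrom_spec braid_3 c h.1 (by omega)
  · exact allFrom_spec braid_4 c h.1 (by omega)
  · exact allFrom_spec braid_5 c h.1 (by omega)
  · exact allFrom_spec braid_6 c h.1 (by omega)
  · exact allFrom_spec braid_7 c h (by omega)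

theorem below3 : (∀ x ∈ [10, 7, 10], x < ActF.act.K) ∧ (∀ x ∈ [7, 10, 7], x < ActF.act.K) := by decide +kernel

theorem braid : zee * let' 7 * zee = let' 7 * zee * let' 7 := by
  have h : el [10, 7, 10] = el [7, 10, 7] := by
    exact el_eq below3.1 below3.2 fun c => Nat.eq_of_beq_eq_true (braid_all c c.2)
  simpa [el, ev, zee, let', mul_assoc] using h

theorem braid_rels : ∀ e ∈ [(6, 7), (5, 6), (4, 5), (3, 4), (2, 3), (1, 2), (0, 1), (3, 8), (8, 9)],
    ([e.1, e.2], 3) ∈ relsG ∧ e.1 < ActF.act.K ∧ e.2 < ActF.act.K := by decide +kernel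

theorem conj_step {x y : ℕ} (hx : x < 10) (hy : y < 10) (h : (let' x * let' y) ^ 3 = 1) :
    let' x * let' y * let' x * (let' x * let' y)⁻¹ = let' y ∧
      let' y * let' x * let' y * (let' y * let' x)⁻¹ = let' x := by
  have sx := let_sq hx
  have sy := let_sq hy
  generalize let' x = a at h sx
  generalize let' y = b at h sy
  have ia : a⁻¹ = a := inv_eq_of_mul_eq_one_right sx
  have ib : b⁻¹ = b := inv_eq_of_mul_eq_one_right sy
  have e : a * b * a = b * a * b := by
    refine eq_of_mul_inv_eq_one ?_
    rw [mul_inv_rev, mul_inv_rev, ia, ib]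
    simpa [pow_succ, mul_assoc] using h
  constructor
  · rw [e, mul_inv_rev, ia, ib]
    calc b * a * b * (b * a) = b * (a * (b * b) * a) := by group
      _ = b := by rw [sy, mul_one, sx, mul_one]
  · rw [← e, mul_inv_rev, ia, ib]
    calc a * b * a * (a * b) = a * (b * (a * a) * b) := by group
      _ = a := by rw [sx, mul_one, sy, mul_one]

theorem pts_steps :
    (∀ x ∈ [10, 7], x < ActF.act.K) ∧ ActF.act.wact [10, 7] 0 = ptN 7 ∧ ptN 10 = 0 ∧
    ∀ e ∈ [(6, 7), (5, 6), (4, 5), (3, 4), (2, 3), (1, 2), (0, 1)],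
      ActF.act.wact [e.2, e.1] (ptN e.2) = ptN e.1 := by decide +kernel

theorem pts_steps' : ∀ e ∈ [(3, 8), (8, 9)], ActF.act.wact [e.1, e.2] (ptN e.1) = ptN e.2 := by decide +kernel

theorem letters_trp : ∀ x, x ≤ 10 → let' x = trp (gpt x) := by
  have h10 : let' 10 = trp (gpt 10) := by
    rw [show gpt 10 = pt0 from Fin.ext pts_steps.2.2.1, trp_pt0]; rfl
  have h7 : let' 7 = trp (gpt 7) := by
    have e : el [10, 7] • pt0 = gpt 7 := Fin.ext ((el_smul pts_steps.1 pt0).trans pts_steps.2.1)
    rw [trp_eq e, show el [10, 7] = zee * let' 7 by simp [el, ev, zee, let'], mul_inv_rev,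
      inv_eq_of_mul_eq_one_right zee_sq, inv_eq_of_mul_eq_one_right (let_sq (show 7 < 10 by decide)),
      show zee * let' 7 * zee * (let' 7 * zee) = zee * let' 7 * zee * let' 7 * zee by group, braid,
      show let' 7 * zee * let' 7 * let' 7 * zee = let' 7 * (zee * (let' 7 * let' 7) * zee) by group,
      let_sq (show 7 < 10 by decide), mul_one, zee_sq, mul_one]
  have hcube : ∀ e ∈ [(6, 7), (5, 6), (4, 5), (3, 4), (2, 3), (1, 2), (0, 1), (3, 8), (8, 9)],
      e.1 < 10 ∧ e.2 < 10 ∧ (let' e.1 * let' e.2) ^ 3 = 1 := by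
    intro e he
    have hlt : e.1 < 10 ∧ e.2 < 10 := by revert he; revert e; decide
    refine ⟨hlt.1, hlt.2, ?_⟩
    have h := (sat_presGen ActF.act.k relsG).rel _ (braid_rels e he).1
    simpa [ev, let', Act.letters_of_lt (show e.1 < ActF.act.k from hlt.1),
      Act.letters_of_lt (show e.2 < ActF.act.k from hlt.2)] using h
  have down : ∀ e ∈ [(6, 7), (5, 6), (4, 5), (3, 4), (2, 3), (1, 2), (0, 1)],
      let' e.2 = trp (gpt e.2) → let' e.1 = trp (gpt e.1) := by
    intro e he h
    obtain ⟨hx, hy, hc⟩ := hcube e (by clear h; revert he; revert e; decide)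
    have hK : ∀ z ∈ [e.2, e.1], z < ActF.act.K := below_K (by simp [hx, hy])
    have e1 : el [e.2, e.1] • gpt e.2 = gpt e.1 :=
      Fin.ext ((el_smul hK _).trans (pts_steps.2.2.2 e he))
    rw [← e1, ← conj_trp, ← h, show el [e.2, e.1] = let' e.2 * let' e.1 by simp [el, ev, let']]
    exact (conj_step hx hy hc).2.symm
  have up : ∀ e ∈ [(3, 8), (8, 9)], let' e.1 = trp (gpt e.1) → let' e.2 = trp (gpt e.2) := by
    intro e he h
    obtain ⟨hx, hy, hc⟩ := hcube e (by clear h; revert he; revert e; decide)
    have hK : ∀ z ∈ [e.1, e.2], z < ActF.act.K := below_K (by simp [hx, hy])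
    have e1 : el [e.1, e.2] • gpt e.1 = gpt e.2 := Fin.ext ((el_smul hK _).trans (pts_steps' e he))
    rw [← e1, ← conj_trp, ← h, show el [e.1, e.2] = let' e.1 * let' e.2 by simp [el, ev, let']]
    exact (conj_step hx hy hc).1.symm
  have h6 := down (6, 7) (by decide) h7
  have h5 := down (5, 6) (by decide) h6
  have h4 := down (4, 5) (by decide) h5
  have h3 := down (3, 4) (by decide) h4
  have h2 := down (2, 3) (by decide) h3
  have h1 := down (1, 2) (by decide) h2
  have h0 := down (0, 1) (by decide) h1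
  have h8 := up (3, 8) (by decide) h3
  have h9 := up (8, 9) (by decide) h8
  intro x hx
  interval_cases x
  exacts [h0, h1, h2, h3, h4, h5, h6, h7, h8, h9, h10]

theorem letters_fix {x : ℕ} (hx : x ≤ 10) (p : Pt) :
    ActF.act.T x p = p ↔ trp (gpt x) • p = p := by
  have hK : x < ActF.act.K := lt_of_le_of_lt hx (by decide +kernel)
  rw [← letters_trp x hx, ← let_smul hK p]
  exact Fin.ext_iff.symm

theorem gens_eq (x : ℕ) (hx : x < 10) : presGen ActF.act.k relsG x = trp (gpt x) := by
  rw [← letters_trp x hx.le, let', Act.letters_of_lt (show x < ActF.act.k from hx)]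

theorem commute_gens {g : Gp} (h : ∀ x, x < 10 → g • gpt x = gpt x) : g = 1 := by
  have := simple
  have hc : ∀ x, x < 10 → Commute g (presGen ActF.act.k relsG x) := fun x hx => by
    rw [gens_eq x hx]; exact (commute_trp_iff _ _).2 (h x hx)
  have hz : g ∈ Subgroup.center Gp := by
    refine Subgroup.mem_center_iff.2 fun y => ?_
    have hy : y ∈ Subgroup.closure (presGen ActF.act.k relsG '' Set.Iio ActF.act.k) := by
      rw [closure_presGen]; trivial
    induction hy using Subgroup.closure_induction with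
    | mem z hz => obtain ⟨x, hx, rfl⟩ := hz; exact (hc x hx).eq.symm
    | one => simp
    | mul u v _ _ hu hv => exact ((Commute.mul_left (show Commute u g from hu) hv).eq)
    | inv u _ hu => exact (Commute.inv_left (show Commute u g from hu)).eq
  rcases IsSimpleGroup.eq_bot_or_eq_top_of_normal (Subgroup.center Gp) inferInstance with hb | hb
  · rw [hb] at hz; exact Subgroup.mem_bot.1 hz
  · exact absurd (centralizer_subH fun u _ =>
      (Subgroup.mem_center_iff.1 (hb ▸ Subgroup.mem_top (let' 7) : let' 7 ∈ Subgroup.center Gp) u))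
      (by
        rw [letters_trp 7 (by decide), ← trp_pt0]
        rintro (h1 | h1)
        · exact trp_ne_one _ h1
        · exact absurd (congrArg Fin.val (trp_inj h1)) (by decide +kernel))

/-- The root reached by the tree from a point, and the image of another point. -/
def toRoot (q c : ℕ) : ℕ :=
  Nat.rec (motive := fun _ => ℕ → ℕ → ℕ) (fun _ c => c)
    (fun _ ih q c =>
      Bool.rec
        (Bool.rec c (ih (ActF.act.T (ActF.top.letter (ActF.top.rank q)) q)
            (ActF.act.T (ActF.top.letter (ActF.top.rank q)) c))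
          (Nat.blt (ActF.top.letter (ActF.top.rank q)) 10))
        c (Nat.beq q 0))
    64 q c

/-- The tree leads from this point to the first one. -/
def rooted (q : ℕ) : Bool := Nat.beq (toRoot q q) 0

/-- The transpositions at two points commute. -/
def com (q c : ℕ) : Bool := Nat.beq (ActF.act.T 10 (toRoot q c)) (toRoot q c)

theorem toRoot_spec (q : Pt) : ∃ g : Gp, ∀ c : Pt, ((g • c : Pt) : ℕ) = toRoot q c := by
  unfold toRoot
  generalize 64 = m
  induction m generalizing q with
  | zero => exact ⟨1, fun c => by rw [one_smul]; rfl⟩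
  | succ m ih =>
    rcases hb : Nat.beq q 0 with _ | _
    swap
    · exact ⟨1, fun c => by rw [one_smul]; simp [hb]⟩
    set s := ActF.top.letter (ActF.top.rank q) with hs
    rcases hl : Nat.blt s 10 with _ | _
    · exact ⟨1, fun c => by rw [one_smul]; simp [hb, ← hs, hl]⟩
    have hK : s < ActF.act.K := lt_of_lt_of_le (Nat.le_of_ble_eq_true hl) (Nat.le_add_right _ _)
    obtain ⟨g, hg⟩ := ih (let' s • q)
    refine ⟨g * let' s, fun c => ?_⟩
    rw [mul_smul, hg (let' s • c), let_smul hK, let_smul hK]
    simp [hb, ← hs, hl]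

theorem com_iff {q : Pt} (hq : rooted q = true) (c : Pt) : com q c = true ↔ trp q • c = c := by
  obtain ⟨g, hg⟩ := toRoot_spec q
  have h0 : g • q = pt0 := Fin.ext ((hg q).trans (Nat.eq_of_beq_eq_true hq))
  rw [← trp_fix_smul g q c, h0, show (pt0 : Pt) = gpt 10 from Fin.ext pts_steps.2.2.1.symm,
    ← letters_fix (le_refl 10), hg c]
  exact ⟨Nat.eq_of_beq_eq_true, fun h => by rw [com, h]; exact Nat.beq_refl _⟩

end

end CfsgLib.Spor.Fi23Out
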