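/-
The group is transitive on tuples of transpositions with the graph of the generators.
-/
import Cfsg.Agent.Lib.Spor.Fi23Out.Points

set_option autoImplicit false

namespace CfsgLib.Spor.Fi23Out

open CfsgLib.Spor.TC CfsgLib.Spor.Fi23 MulAction

noncomputable section

attribute [local instance] actionF

/-- The test that a point can be the image of generator `x` when those of `pre` are fixed. -/
def cand (pre : List ℕ) (x q : ℕ) : Bool :=
  allList (fun y => !Nat.beq q (ptN y) &&
    (Nat.beq (ActF.act.T y q) q == Nat.beq (ActF.act.T y (ptN x)) (ptN x))) pre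

/-- An automorphism fixes some letters. -/
def Fixes (β : MulAut Gp) (pre : List ℕ) : Prop := ∀ y ∈ pre, β (let' y) = let' y

/-- An element fixes the points of some letters. -/
def Keeps (g : Gp) (pre : List ℕ) : Prop := ∀ y ∈ pre, g • gpt y = gpt y

theorem keeps_one (pre : List ℕ) : Keeps 1 pre := fun _ _ => one_smul _ _

theorem Keeps.mul {g h : Gp} {pre : List ℕ} (hg : Keeps g pre) (hh : Keeps h pre) : Keeps (g * h) pre :=
  fun y hy => by rw [mul_smul, hh y hy, hg y hy]

theorem image_trp {β : MulAut Gp} (hz : β zee = zee) (p : Pt) : ∃ q : Pt, β (trp p) = trp q := by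
  obtain ⟨u, rfl⟩ := trans_pt p
  exact ⟨β u • pt0, by rw [trp_eq (g := u) rfl, trp_eq (g := β u) rfl, map_mul, map_mul, map_inv, hz]⟩

theorem cand_of_fix {β : MulAut Gp} {pre : List ℕ} {x : ℕ} (hle : ∀ y ∈ pre, y ≤ 10)
    (hne : ∀ y ∈ pre, ptN y ≠ ptN x) (hβ : Fixes β pre) {q : Pt} (hq : β (trp (gpt x)) = trp q) :
    cand pre x q = true := by
  unfold cand
  revert hle hne hβ
  induction pre with
  | nil => intros; rfl
  | cons y pre ih =>
    intro hle hne hβ
    have hy := hβ y List.mem_cons_self
    have hley := hle y List.mem_cons_self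
    change (!Nat.beq q (ptN y) && (Nat.beq (ActF.act.T y q) q == Nat.beq (ActF.act.T y (ptN x)) (ptN x)) &&
      allList _ pre) = true
    rw [ih (fun z hz => hle z (List.mem_cons_of_mem _ hz)) (fun z hz => hne z (List.mem_cons_of_mem _ hz))
      (fun z hz => hβ z (List.mem_cons_of_mem _ hz)), Bool.and_true]
    simp only [Bool.and_eq_true, Bool.not_eq_true', beq_iff_eq]
    refine ⟨Bool.eq_false_iff.2 fun e => ?_, ?_⟩
    · have e' : q = gpt y := Fin.ext (Nat.eq_of_beq_eq_true e)
      rw [e', ← letters_trp y hley, ← hy, letters_trp y hley] at hq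
      exact hne y List.mem_cons_self (congrArg Fin.val (trp_inj (β.injective hq))).symm
    · have key : trp (gpt y) • q = q ↔ trp (gpt y) • gpt x = gpt x := by
        rw [← commute_trp_iff, ← commute_trp_iff, ← hq, ← letters_trp y hley]
        conv_lhs => rw [← hy]
        exact ⟨fun h => by simpa using h.map β.symm.toMonoidHom, fun h => h.map β.toMonoidHom⟩
      rw [Bool.eq_iff_iff]
      constructor
      · exact fun h => by
          rw [show ActF.act.T y (ptN x) = ptN x from
            (letters_fix hley (gpt x)).2 (key.1 ((letters_fix hley q).1 (Nat.eq_of_beq_eq_true h)))]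
          exact Nat.beq_refl _
      · exact fun h => by
          rw [show ActF.act.T y q = q from
            (letters_fix hley q).2 (key.2 ((letters_fix hley (gpt x)).1 (Nat.eq_of_beq_eq_true h)))]
          exact Nat.beq_refl _

theorem fixes_conj {β : MulAut Gp} {pre : List ℕ} (hle : ∀ y ∈ pre, y ≤ 10) (hβ : Fixes β pre) {g : Gp}
    (hg : Keeps g pre) : Fixes (MulAut.conj g⁻¹ * β) pre := fun y hy => by
  rw [MulAut.mul_apply, hβ y hy, letters_trp y (hle y hy), MulAut.conj_apply, conj_trp]
  congr 1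
  rw [inv_smul_eq_iff, hg y hy]

/-- One step: if the elements fixing the earlier points are transitive on candidates, a further letter is fixed. -/
theorem fixes_step {pre : List ℕ} {x : ℕ} (hle : ∀ y ∈ pre, y ≤ 10) (hx : x ≤ 10) (h10 : 10 ∈ pre)
    (hne : ∀ y ∈ pre, ptN y ≠ ptN x)
    (htr : ∀ q : Pt, cand pre x q = true → ∃ g : Gp, Keeps g pre ∧ g • gpt x = q)
    {β : MulAut Gp} (hβ : Fixes β pre) : ∃ g : Gp, Fixes (MulAut.conj g * β) (x :: pre) := by
  obtain ⟨q, hq⟩ := image_trp (show β zee = zee from hβ 10 h10) (gpt x)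
  obtain ⟨g, hg, hgq⟩ := htr q (cand_of_fix hle hne hβ hq)
  refine ⟨g⁻¹, fun y hy => ?_⟩
  rcases List.mem_cons.1 hy with rfl | hy
  · rw [MulAut.mul_apply, letters_trp y hx, hq, MulAut.conj_apply, conj_trp, ← hgq, inv_smul_smul]
  · exact fixes_conj hle hβ hg y hy

/-- The word of a transposition fixing the earlier points. -/
def genOK (pre : List ℕ) (u : List ℕ) : Bool :=
  allBelow 10 u && allList (fun y => Nat.beq (ActF.act.T y (ActF.act.wact u 0)) (ActF.act.wact u 0)) pre

theorem genOK_spec {pre : List ℕ} (hle : ∀ y ∈ pre, y ≤ 10) {u : List ℕ} (h : genOK pre u = true) :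
    ∃ d : Gp, Keeps d pre ∧ ∀ c : Pt, ((d • c : Pt) : ℕ) = ActF.act.wact (u ++ 10 :: u.reverse) c := by
  unfold genOK at h
  simp only [Bool.and_eq_true] at h
  have hu := allBelow_spec h.1
  set k : Pt := el u • pt0 with hk
  have ek : (k : ℕ) = ActF.act.wact u 0 := el_smul (below_K hu) pt0
  refine ⟨trp k, fun y hy => ?_, fun c => ?_⟩
  · refine (trp_fix_comm _ _).1 ?_
    rw [← letters_fix (hle y hy), ek]
    exact Nat.eq_of_beq_eq_true (allList_spec h.2 y hy)
  · rw [trp_word hu ek.symm, el_smul fun z hz => ?_]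
    rcases List.mem_append.1 hz with h | h
    · exact below_K hu z h
    · rcases List.mem_cons.1 h with rfl | h
      · exact below3.1 10 List.mem_cons_self
      · exact below_K hu z (List.mem_reverse.1 h)

/-- Points reached from a list by transpositions fixing the earlier points. -/
def reachRec (gens : List (List ℕ)) (rs : List (ℕ × ℕ)) : List ℕ → List ℕ :=
  List.rec (motive := fun _ => List ℕ → List ℕ) (fun acc => acc)
    (fun row _ ih acc => Bool.rec []
      (ih (ActF.act.wact (gens.getD row.1 [] ++ 10 :: (gens.getD row.1 []).reverse) row.2 :: acc))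
      (Nat.blt row.1 gens.length && memNat row.2 acc))
    rs

theorem reachRec_spec {pre : List ℕ} (hle : ∀ y ∈ pre, y ≤ 10) {gens : List (List ℕ)}
    (hgens : ∀ u ∈ gens, genOK pre u = true) {p : Pt} :
    ∀ (rs : List (ℕ × ℕ)) (acc : List ℕ), (∀ k ∈ acc, ∃ g : Gp, Keeps g pre ∧ ((g • p : Pt) : ℕ) = k) →
      ∀ k ∈ reachRec gens rs acc, ∃ g : Gp, Keeps g pre ∧ ((g • p : Pt) : ℕ) = k := by
  intro rs
  induction rs with
  | nil => exact fun acc h => h
  | cons row rs ih =>
    intro acc hacc k hk
    change k ∈ Bool.rec (motive := fun _ => List ℕ) [] (reachRec gens rs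
      (ActF.act.wact (gens.getD row.1 [] ++ 10 :: (gens.getD row.1 []).reverse) row.2 :: acc))
      (Nat.blt row.1 gens.length && memNat row.2 acc) at hk
    rcases hb : (Nat.blt row.1 gens.length && memNat row.2 acc) with _ | _
    · rw [hb] at hk; cases hk
    rw [hb] at hk
    simp only [Bool.and_eq_true] at hb
    refine ih _ (fun j hj => ?_) k hk
    rcases List.mem_cons.1 hj with rfl | hj
    swap
    · exact hacc j hj
    have hlt := Nat.le_of_ble_eq_true hb.1
    obtain ⟨d, hd, hdc⟩ := genOK_spec hle (hgens _ (by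
      rw [List.getD_eq_getElem _ _ hlt]; exact List.getElem_mem hlt) : genOK pre (gens.getD row.1 []) = true)
    obtain ⟨g, hg, hgk⟩ := hacc _ (memNat_spec hb.2)
    exact ⟨d * g, hd.mul hg, by rw [mul_smul, hdc, hgk]⟩

/-- Candidates lie in a list. -/
def candAt (pre : List ℕ) (x : ℕ) (C : List ℕ) (q : ℕ) : Bool := !cand pre x q || memNat q C

theorem trans_of_check {pre : List ℕ} {x : ℕ} (hle : ∀ y ∈ pre, y ≤ 10) {gens : List (List ℕ)}
    {rs : List (ℕ × ℕ)} (hgens : gens.all (genOK pre) = true)
    (hscan : ∀ q, q < 31671 → candAt pre x (reachRec gens rs [ptN x]) q = true)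
    (q : Pt) (hq : cand pre x q = true) : ∃ g : Gp, Keeps g pre ∧ g • gpt x = q := by
  have h := hscan q q.2
  simp only [candAt, hq, Bool.not_true, Bool.false_or] at h
  obtain ⟨g, hg, e⟩ := reachRec_spec hle (List.all_eq_true.1 hgens) (p := gpt x) rs [ptN x]
    (fun k hk => ⟨1, keeps_one pre, by rw [one_smul, List.mem_singleton.1 hk]; rfl⟩) _ (memNat_spec h)
  exact ⟨g, hg, Fin.ext e⟩

theorem split_scan {f : ℕ → Bool} (h0 : allFrom f 0 8000 = true) (h1 : allFrom f 8000 8000 = true)
    (h2 : allFrom f 16000 8000 = true) (h3 : allFrom f 24000 7671 = true) : ∀ q, q < 31671 → f q = true := by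
  intro q hq
  rcases (show q < 8000 ∨ (8000 ≤ q ∧ q < 16000) ∨ (16000 ≤ q ∧ q < 24000) ∨ 24000 ≤ q by omega) with h | h | h | h
  · exact allFrom_spec h0 q (Nat.zero_le _) (by omega)
  · exact allFrom_spec h1 q h.1 (by omega)
  · exact allFrom_spec h2 q h.1 (by omega)
  · exact allFrom_spec h3 q h (by omega)

end

end CfsgLib.Spor.Fi23Out
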