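/-
Candidates for the last five generators.
-/
import Cfsg.Agent.Lib.Spor.Fi23Out.Tuples

set_option autoImplicit false

namespace CfsgLib.Spor.Fi23Out

open CfsgLib.Spor.TC CfsgLib.Spor.Fi23 MulAction

/-- The fixed letters. -/
def preF : List ℕ := [3, 2, 1, 0, 10, 7]

/-- The test that a point is not a candidate, or is in the lists. -/
noncomputable def scanF (q : ℕ) : Bool :=
  candAt preF 4 cands4 q &&
    candAt preF 5 cands5 q &&
    candAt preF 6 cands6 q &&
    candAt preF 8 cands8 q &&
    candAt preF 9 cands9 q

theorem scanF_0 : allFrom scanF 0 8000 = true := by decide +kernel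

theorem scanF_1 : allFrom scanF 8000 8000 = true := by decide +kernel

theorem scanF_2 : allFrom scanF 16000 8000 = true := by decide +kernel

theorem scanF_3 : allFrom scanF 24000 7671 = true := by decide +kernel

theorem scanF_all : ∀ q, q < 31671 → scanF q = true := split_scan scanF_0 scanF_1 scanF_2 scanF_3

end CfsgLib.Spor.Fi23Out
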