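/-
Transitivity on the candidates of one generator.
-/
import Cfsg.Agent.Lib.Spor.Fi23Out.Tuples

set_option autoImplicit false

namespace CfsgLib.Spor.Fi23Out

open CfsgLib.Spor.TC CfsgLib.Spor.Fi23 MulAction

attribute [local instance] actionF

theorem gens0_ok : gens0.all (genOK [10, 7]) = true := by decide +kernel

/-- The test of one point in step 0. -/
noncomputable def scan0 (q : ℕ) : Bool := candAt [10, 7] 0 (reachRec gens0 rows0 [ptN 0]) q

theorem scan0_0 : allFrom scan0 0 8000 = true := by decide +kernel

theorem scan0_1 : allFrom scan0 8000 8000 = true := by decide +kernel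

theorem scan0_2 : allFrom scan0 16000 8000 = true := by decide +kernel

theorem scan0_3 : allFrom scan0 24000 7671 = true := by decide +kernel

theorem trans0 : ∀ q : Pt, cand [10, 7] 0 q = true →
    ∃ g : Gp, Keeps g [10, 7] ∧ g • gpt 0 = q :=
  trans_of_check (pre := [10, 7]) (x := 0) (by decide) gens0_ok
    (split_scan scan0_0 scan0_1 scan0_2 scan0_3)

end CfsgLib.Spor.Fi23Out
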