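/-
Transitivity on the candidates of one generator.
-/
import Cfsg.Agent.Lib.Spor.Fi23Out.Tuples

set_option autoImplicit false

namespace CfsgLib.Spor.Fi23Out

open CfsgLib.Spor.TC CfsgLib.Spor.Fi23 MulAction

attribute [local instance] actionF

theorem gens1_ok : gens1.all (genOK [0, 10, 7]) = true := by decide +kernel

/-- The test of one point in step 1. -/
noncomputable def scan1 (q : ℕ) : Bool := candAt [0, 10, 7] 1 (reachRec gens1 rows1 [ptN 1]) q

theorem scan1_0 : allFrom scan1 0 8000 = true := by decide +kernel

theorem scan1_1 : allFrom scan1 8000 8000 = true := by decide +kernel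

theorem scan1_2 : allFrom scan1 16000 8000 = true := by decide +kernel

theorem scan1_3 : allFrom scan1 24000 7671 = true := by decide +kernel

theorem trans1 : ∀ q : Pt, cand [0, 10, 7] 1 q = true →
    ∃ g : Gp, Keeps g [0, 10, 7] ∧ g • gpt 1 = q :=
  trans_of_check (pre := [0, 10, 7]) (x := 1) (by decide) gens1_ok
    (split_scan scan1_0 scan1_1 scan1_2 scan1_3)

end CfsgLib.Spor.Fi23Out
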