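/-
Transitivity on the candidates of one generator.
-/
import Cfsg.Agent.Lib.Spor.Fi23Out.Tuples

set_option autoImplicit false

namespace CfsgLib.Spor.Fi23Out

open CfsgLib.Spor.TC CfsgLib.Spor.Fi23 MulAction

attribute [local instance] actionF

theorem gens2_ok : gens2.all (genOK [1, 0, 10, 7]) = true := by decide +kernel

/-- The test of one point in step 2. -/
noncomputable def scan2 (q : ℕ) : Bool := candAt [1, 0, 10, 7] 2 (reachRec gens2 rows2 [ptN 2]) q

theorem scan2_0 : allFrom scan2 0 8000 = true := by decide +kernel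

theorem scan2_1 : allFrom scan2 8000 8000 = true := by decide +kernel

theorem scan2_2 : allFrom scan2 16000 8000 = true := by decide +kernel

theorem scan2_3 : allFrom scan2 24000 7671 = true := by decide +kernel

theorem trans2 : ∀ q : Pt, cand [1, 0, 10, 7] 2 q = true →
    ∃ g : Gp, Keeps g [1, 0, 10, 7] ∧ g • gpt 2 = q :=
  trans_of_check (pre := [1, 0, 10, 7]) (x := 2) (by decide) gens2_ok
    (split_scan scan2_0 scan2_1 scan2_2 scan2_3)

end CfsgLib.Spor.Fi23Out
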