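/-
Transitivity on the candidates of one generator.
-/
import Cfsg.Agent.Lib.Spor.Fi23Out.Tuples

set_option autoImplicit false

namespace CfsgLib.Spor.Fi23Out

open CfsgLib.Spor.TC CfsgLib.Spor.Fi23 MulAction

attribute [local instance] actionF

theorem gens3_ok : gens3.all (genOK [2, 1, 0, 10, 7]) = true := by decide +kernel

/-- The test of one point in step 3. -/
noncomputable def scan3 (q : ℕ) : Bool := candAt [2, 1, 0, 10, 7] 3 (reachRec gens3 rows3 [ptN 3]) q

theorem scan3_0 : allFrom scan3 0 8000 = true := by decide +kernel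

theorem scan3_1 : allFrom scan3 8000 8000 = true := by decide +kernel

theorem scan3_2 : allFrom scan3 16000 8000 = true := by decide +kernel

theorem scan3_3 : allFrom scan3 24000 7671 = true := by decide +kernel

theorem trans3 : ∀ q : Pt, cand [2, 1, 0, 10, 7] 3 q = true →
    ∃ g : Gp, Keeps g [2, 1, 0, 10, 7] ∧ g • gpt 3 = q :=
  trans_of_check (pre := [2, 1, 0, 10, 7]) (x := 3) (by decide) gens3_ok
    (split_scan scan3_0 scan3_1 scan3_2 scan3_3)

end CfsgLib.Spor.Fi23Out
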