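/-
An involution commuting with an element of order thirteen is one of three transpositions.
-/
import Cfsg.Agent.Lib.Spor.Fi23Out.Points
import Mathlib.GroupTheory.Sylow

set_option autoImplicit false

namespace CfsgLib.Spor.Fi23Out

open CfsgLib.Spor.TC CfsgLib.Spor.Fi23 MulAction
open scoped Pointwise

noncomputable section

attribute [local instance] actionF

/-- The element of order thirteen. -/
def thirteen : Gp := el xw

theorem xw_below : ∀ x ∈ xw, x < 10 := by decide

theorem thirteen_smul (c : Pt) : ((thirteen • c : Pt) : ℕ) = ActF.act.wact xw c := el_smul (below_K xw_below) c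

theorem thirteen_pow_smul (m : ℕ) (c : Pt) : ((thirteen ^ m • c : Pt) : ℕ) = ActF.act.wpow xw m c := by
  induction m with
  | zero => rw [pow_zero, one_smul]; rfl
  | succ m ih =>
    rw [pow_succ', mul_smul, thirteen_smul, ih]
    rfl

theorem thirteen_cycles : (∀ x, x < 10 → ActF.act.wpow xw 13 (ptN x) = ptN x) ∧
    ActF.act.wact xw (ptN 6) ≠ ptN 6 ∧ ActF.act.wact xw 0 = 0 ∧ ActF.act.wact xw (ptN 7) = ptN 7 ∧
    ActF.act.wact [10, 7] 0 = 8006 ∧ ActF.act.wact [10, 7, 10, 7] 0 = 1 ∧
    ∀ q ∈ oddOrbit, ∃ i, i < 13 ∧ ActF.act.wpow xw i 52 = q := by decide +kernel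

theorem thirteen_pow : thirteen ^ 13 = 1 :=
  commute_gens fun x hx => Fin.ext ((thirteen_pow_smul 13 _).trans (thirteen_cycles.1 x hx))

theorem orderOf_thirteen : orderOf thirteen = 13 := by
  have : Fact (Nat.Prime 13) := ⟨by norm_num⟩
  refine orderOf_eq_prime thirteen_pow fun h => thirteen_cycles.2.1 ?_
  have h1 := thirteen_smul (gpt 6)
  rw [h, one_smul] at h1
  exact h1.symm

/-- A point fixed only if it is one of three. -/
def fixAt (c : ℕ) : Bool :=
  !(Nat.beq (ActF.act.wact xw c) c) || (Nat.beq c 0 || Nat.beq c 1 || Nat.beq c 8006)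

theorem fix_0 : allFrom fixAt 0 8000 = true := by decide +kernel
theorem fix_1 : allFrom fixAt 8000 8000 = true := by decide +kernel
theorem fix_2 : allFrom fixAt 16000 8000 = true := by decide +kernel
theorem fix_3 : allFrom fixAt 24000 7671 = true := by decide +kernel

theorem fixed_three (c : Pt) (h : thirteen • c = c) : (c : ℕ) = 0 ∨ (c : ℕ) = 1 ∨ (c : ℕ) = 8006 := by
  have hc : (c : ℕ) < 31671 := c.2
  have h1 : fixAt c = true := by
    rcases (show (c : ℕ) < 8000 ∨ (8000 ≤ (c : ℕ) ∧ (c : ℕ) < 16000) ∨ (16000 ≤ (c : ℕ) ∧ (c : ℕ) < 24000) ∨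
        24000 ≤ (c : ℕ) by omega) with h | h | h | h
    · exact allFrom_spec fix_0 c (Nat.zero_le _) (by omega)
    · exact allFrom_spec fix_1 c h.1 (by omega)
    · exact allFrom_spec fix_2 c h.1 (by omega)
    · exact allFrom_spec fix_3 c h (by omega)
  have h2 : ActF.act.wact xw c = c := (thirteen_smul c).symm.trans (congrArg Fin.val h)
  simp only [fixAt, Bool.or_eq_true, Bool.not_eq_true'] at h1
  rcases h1 with h1 | (h1 | h1) | h1
  · rw [h2] at h1; exact absurd (Nat.beq_refl (c : ℕ)) (by rw [h1]; exact Bool.false_ne_true)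
  · exact Or.inl (Nat.eq_of_beq_eq_true h1)
  · exact Or.inr (Or.inl (Nat.eq_of_beq_eq_true h1))
  · exact Or.inr (Or.inr (Nat.eq_of_beq_eq_true h1))

/-- The pattern along the cycle of a point. -/
def sigB (q : ℕ) : Bool :=
  com q (ActF.act.wpow xw 1 q) && !com q (ActF.act.wpow xw 2 q) && com q (ActF.act.wpow xw 3 q) &&
    !com q (ActF.act.wpow xw 4 q) && !com q (ActF.act.wpow xw 5 q) && com q (ActF.act.wpow xw 6 q)

/-- The test of a neighbour. -/
def sigAt (q : ℕ) : Bool :=
  !(Nat.beq (ActF.act.T 10 q) q && !Nat.beq q 0) || (rooted q && (!sigB q || memNat q sigSet))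

theorem sig_0 : allFrom sigAt 0 4000 = true := by decide +kernel
theorem sig_1 : allFrom sigAt 4000 4000 = true := by decide +kernel
theorem sig_2 : allFrom sigAt 8000 4000 = true := by decide +kernel
theorem sig_3 : allFrom sigAt 12000 4000 = true := by decide +kernel
theorem sig_4 : allFrom sigAt 16000 4000 = true := by decide +kernel
theorem sig_5 : allFrom sigAt 20000 4000 = true := by decide +kernel
theorem sig_6 : allFrom sigAt 24000 4000 = true := by decide +kernel
theorem sig_7 : allFrom sigAt 28000 3671 = true := by decide +kernel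

theorem sigSet_ok : sigSet.Nodup ∧ oddOrbit.Nodup ∧ oddOrbit.length = 13 ∧
    (∀ q ∈ sigSet, q < 31671 ∧ (Nat.beq (ActF.act.T 10 q) q && !Nat.beq q 0 && rooted q && sigB q) = true ∧
      ((sigSet.countP fun r => com q r) = 11 ↔ q ∈ oddOrbit)) ∧
    (∀ q ∈ oddOrbit, q ∈ sigSet) := by decide +kernel

theorem nb_spec (q : Pt) (h1 : ActF.act.T 10 q = q) (h2 : (q : ℕ) ≠ 0) :
    rooted q = true ∧ (sigB q = true → (q : ℕ) ∈ sigSet) := by
  have hq : (q : ℕ) < 31671 := q.2
  have h : sigAt q = true := by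
    rcases (show (q : ℕ) < 4000 ∨ (4000 ≤ (q : ℕ) ∧ (q : ℕ) < 8000) ∨ (8000 ≤ (q : ℕ) ∧ (q : ℕ) < 12000) ∨
        (12000 ≤ (q : ℕ) ∧ (q : ℕ) < 16000) ∨ (16000 ≤ (q : ℕ) ∧ (q : ℕ) < 20000) ∨
        (20000 ≤ (q : ℕ) ∧ (q : ℕ) < 24000) ∨ (24000 ≤ (q : ℕ) ∧ (q : ℕ) < 28000) ∨ 28000 ≤ (q : ℕ) by omega) with
      h | h | h | h | h | h | h | h
    · exact allFrom_spec sig_0 q (Nat.zero_le _) (by omega)
    · exact allFrom_spec sig_1 q h.1 (by omega)
    · exact allFrom_spec sig_2 q h.1 (by omega)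
    · exact allFrom_spec sig_3 q h.1 (by omega)
    · exact allFrom_spec sig_4 q h.1 (by omega)
    · exact allFrom_spec sig_5 q h.1 (by omega)
    · exact allFrom_spec sig_6 q h.1 (by omega)
    · exact allFrom_spec sig_7 q h (by omega)
  have e1 : Nat.beq (ActF.act.T 10 q) q = true := by rw [h1]; exact Nat.beq_refl _
  have e2 : Nat.beq q 0 = false := Bool.eq_false_iff.2 fun e => h2 (Nat.eq_of_beq_eq_true e)
  simp only [sigAt, e1, e2, Bool.not_false, Bool.and_self, Bool.not_true, Bool.false_or, Bool.and_eq_true,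
    Bool.or_eq_true, Bool.not_eq_true'] at h
  refine ⟨h.1, fun hs => ?_⟩
  rcases h.2 with h' | h'
  · rw [hs] at h'; exact absurd h' (by decide)
  · exact memNat_spec h'

/-- Points reached from known ones by known transpositions. -/
def closRec (rs : List (List ℕ × ℕ)) : List ℕ → Bool :=
  List.rec (motive := fun _ => List ℕ → Bool)
    (fun acc => allList (fun x => memNat (ptN x) acc) gensH)
    (fun row _ ih acc =>
      allBelow 10 row.1 && memNat (ActF.act.wact row.1 0) acc && memNat row.2 acc && Nat.blt row.2 ActF.act.n &&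
        ih (ActF.act.wact (row.1 ++ 10 :: row.1.reverse) row.2 :: acc))
    rs

theorem closRows_ok : closRec closRows (0 :: oddOrbit) = true := by decide +kernel

theorem closRec_spec {t : Gp} : ∀ (rs : List (List ℕ × ℕ)) (acc : List ℕ), closRec rs acc = true →
    (∀ k ∈ acc, ∀ p : Pt, (p : ℕ) = k → t • p = p) → ∀ x ∈ gensH, t • gpt x = gpt x := by
  intro rs
  induction rs with
  | nil =>
    intro acc h hacc x hx
    change allList (fun x => memNat (ptN x) acc) gensH = true at h
    exact hacc _ (memNat_spec (allList_spec h x hx)) _ rfl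
  | cons row rs ih =>
    intro acc h hacc
    change (allBelow 10 row.1 && memNat (ActF.act.wact row.1 0) acc && memNat row.2 acc && Nat.blt row.2 ActF.act.n &&
      closRec rs (ActF.act.wact (row.1 ++ 10 :: row.1.reverse) row.2 :: acc)) = true at h
    simp only [Bool.and_eq_true] at h
    obtain ⟨⟨⟨⟨hb, hk⟩, hr⟩, hlt⟩, hrest⟩ := h
    have hu := allBelow_spec hb
    refine ih _ hrest fun k hk' p hp => ?_
    rcases List.mem_cons.1 hk' with rfl | hk'
    swap
    · exact hacc k hk' p hp
    set kp : Pt := el row.1 • pt0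
    have ekp : (kp : ℕ) = ActF.act.wact row.1 0 := el_smul (below_K hu) pt0
    have hall : ∀ y ∈ row.1 ++ 10 :: row.1.reverse, y < ActF.act.K := by
      intro y hy
      rcases List.mem_append.1 hy with h | h
      · exact below_K hu y h
      · rcases List.mem_cons.1 h with rfl | h
        · decide +kernel
        · exact below_K hu y (List.mem_reverse.1 h)
    set d := el (row.1 ++ 10 :: row.1.reverse)
    have hd : Commute t d := by
      rw [show d = trp kp from (trp_word hu ekp.symm).symm]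
      exact (commute_trp_iff t kp).2 (hacc _ (memNat_spec hk) kp ekp)
    have e : d • (d⁻¹ • p) = p := smul_inv_smul d p
    have hv : ((d⁻¹ • p : Pt) : ℕ) = row.2 := by
      have e2 : d • (⟨row.2, Nat.le_of_ble_eq_true hlt⟩ : Pt) = p := Fin.ext ((el_smul hall _).trans hp.symm)
      rw [← e2, inv_smul_smul]
    have := hacc _ (memNat_spec hr) _ hv
    calc t • p = (t * d) • (d⁻¹ • p) := by rw [mul_smul, e]
      _ = d • (t • (d⁻¹ • p)) := by rw [hd.eq, mul_smul]
      _ = p := by rw [this, e]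

theorem gensH_le : ∀ x ∈ gensH, x < 10 := gensH_lt

/-- An involution commuting with the element and fixing the first point is the central transposition. -/
theorem eq_zee {t : Gp} (ht : t * t = 1) (htx : Commute t thirteen) (h0 : t • pt0 = pt0) : t = 1 ∨ t = zee := by
  classical
  have htz : Commute t zee := (commute_zee_iff t).2 h0
  have hgp : gpt 10 = pt0 := Fin.ext pts_steps.2.2.1
  have hnb : ∀ q : Pt, ActF.act.T 10 q = q ↔ trp pt0 • q = q := fun q => by rw [← hgp]; exact letters_fix le_rfl q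
  have hn : ∀ {q : ℕ}, q ∈ sigSet → q < ActF.act.n := fun hq => (sigSet_ok.2.2.2.1 _ hq).1
  have hroot : ∀ {q : ℕ}, q ∈ sigSet → rooted q = true := fun hq => by
    have := (sigSet_ok.2.2.2.1 _ hq).2.1
    simp only [Bool.and_eq_true] at this
    exact this.1.2
  have hequiv : ∀ q r : Pt, rooted q = true → rooted (t • q : Pt) = true →
      com (t • q : Pt) (t • r : Pt) = com q r := fun q r h1 h2 => by
    rw [Bool.eq_iff_iff, com_iff h2, com_iff h1, trp_fix_smul]
  have hpow : ∀ (i : ℕ) (q : Pt), ((t • (thirteen ^ i • q) : Pt) : ℕ) = ActF.act.wpow xw i (t • q : Pt) := by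
    intro i q
    rw [← mul_smul, (htx.pow_right i).eq, mul_smul, thirteen_pow_smul]
  have hmaps : ∀ q : Pt, (q : ℕ) ∈ sigSet → ((t • q : Pt) : ℕ) ∈ sigSet := by
    intro q hq
    have h := (sigSet_ok.2.2.2.1 _ hq).2.1
    simp only [Bool.and_eq_true, Bool.not_eq_true'] at h
    obtain ⟨⟨⟨h1, h2⟩, h3⟩, h4⟩ := h
    have e1 : ActF.act.T 10 (t • q : Pt) = (t • q : Pt) := by
      have := (hnb q).1 (Nat.eq_of_beq_eq_true h1)
      rw [hnb, trp_pt0, ← mul_smul, ← htz.eq, mul_smul, ← trp_pt0, this]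
    have e2 : ((t • q : Pt) : ℕ) ≠ 0 := fun e => by
      have e' : q = pt0 := MulAction.injective t ((Fin.ext e : (t • q : Pt) = pt0).trans h0.symm)
      rw [e'] at h2
      exact absurd h2 (by decide)
    obtain ⟨hr, hsig⟩ := nb_spec _ e1 e2
    refine hsig ?_
    have key : ∀ i, com (t • q : Pt) (ActF.act.wpow xw i (t • q : Pt)) = com q (ActF.act.wpow xw i q) := fun i => by
      rw [← hpow, ← thirteen_pow_smul, hequiv q _ h3 hr]
    rw [sigB] at h4 ⊢
    rwa [key 1, key 2, key 3, key 4, key 5, key 6]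
  let f : ℕ → ℕ := fun n => if h : n < ActF.act.n then ((t • (⟨n, h⟩ : Pt) : Pt) : ℕ) else n
  have hf : ∀ q : Pt, f q = (t • q : Pt) := fun q => by simp [f]
  have hfs : ∀ {q : ℕ}, q ∈ sigSet → f q ∈ sigSet := fun {q} hq => by
    rw [show q = ((⟨q, hn hq⟩ : Pt) : ℕ) from rfl, hf]
    exact hmaps _ hq
  have hff : ∀ {q : ℕ}, q ∈ sigSet → f (f q) = q := fun {q} hq => by
    rw [show q = ((⟨q, hn hq⟩ : Pt) : ℕ) from rfl, hf, hf, ← mul_smul, ht, one_smul]
  have hperm : (sigSet.map f).Perm sigSet := by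
    refine ((List.Nodup.map_on (fun a ha b hb e => ?_) sigSet_ok.1).subperm fun b hb => ?_).perm_of_length_le
      (by rw [List.length_map])
    · rw [← hff ha, e, hff hb]
    · obtain ⟨a, ha, rfl⟩ := List.mem_map.1 hb
      exact hfs ha
  have hcnt : ∀ {q : ℕ}, q ∈ sigSet → (sigSet.countP fun r => com (f q) r) = sigSet.countP fun r => com q r := by
    intro q hq
    rw [← hperm.countP_eq, List.countP_map]
    refine List.countP_congr fun r hr => ?_
    have e := hequiv ⟨q, hn hq⟩ ⟨r, hn hr⟩ (hroot hq) (by rw [← hf]; exact hroot (hfs hq))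
    rw [← hf, ← hf] at e
    simp only [Function.comp_apply]
    rw [e]
  have hodd : ∀ {q : ℕ}, q ∈ oddOrbit → f q ∈ oddOrbit := fun {q} hq => by
    have hS := sigSet_ok.2.2.2.2 q hq
    rw [← (sigSet_ok.2.2.2.1 _ (hfs hS)).2.2, hcnt hS, (sigSet_ok.2.2.2.1 _ hS).2.2]
    exact hq
  -- an involution on thirteen points fixes one of them
  obtain ⟨q, hq, hfq⟩ : ∃ q ∈ oddOrbit, f q = q := by
    have : Fact (Nat.Prime 2) := ⟨Nat.prime_two⟩
    let σ : Equiv.Perm {q // q ∈ oddOrbit.toFinset} :=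
      Function.Involutive.toPerm (fun q => ⟨f q, List.mem_toFinset.2 (hodd (List.mem_toFinset.1 q.2))⟩)
        fun q => Subtype.ext (hff (sigSet_ok.2.2.2.2 _ (List.mem_toFinset.1 q.2)))
    obtain ⟨a, ha⟩ := Equiv.Perm.exists_fixed_point_of_prime (p := 2) (n := 1) (σ := σ) (by
      rw [Fintype.card_coe, List.toFinset_card_of_nodup sigSet_ok.2.1, sigSet_ok.2.2.1]
      decide) (by
      rw [pow_one, pow_two]
      exact Equiv.ext fun x => Subtype.ext (hff (sigSet_ok.2.2.2.2 _ (List.mem_toFinset.1 x.2))))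
    exact ⟨a, List.mem_toFinset.1 a.2, congrArg Subtype.val ha⟩
  have hacc : ∀ k ∈ 0 :: oddOrbit, ∀ p : Pt, (p : ℕ) = k → t • p = p := by
    intro k hk p hp
    rcases List.mem_cons.1 hk with rfl | hk
    · rwa [show p = pt0 from Fin.ext hp]
    let q' : Pt := ⟨q, hn (sigSet_ok.2.2.2.2 q hq)⟩
    have hq' : t • q' = q' := Fin.ext ((hf q').symm.trans hfq)
    obtain ⟨i, -, hi⟩ := thirteen_cycles.2.2.2.2.2.2 q hq
    obtain ⟨j, -, hj⟩ := thirteen_cycles.2.2.2.2.2.2 k hk
    let b : Pt := ⟨52, by decide +kernel⟩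
    have hb : t • b = b := by
      refine MulAction.injective (thirteen ^ i) ?_
      show (thirteen ^ i) • (t • b) = (thirteen ^ i) • b
      rw [show (thirteen ^ i) • b = q' from Fin.ext ((thirteen_pow_smul i b).trans hi), ← mul_smul,
        ← (htx.pow_right i).eq, mul_smul, show (thirteen ^ i) • b = q' from
          Fin.ext ((thirteen_pow_smul i b).trans hi), hq']
    rw [show p = thirteen ^ j • b from Fin.ext (hp.trans ((thirteen_pow_smul j b).trans hj).symm), ← mul_smul,
      (htx.pow_right j).eq, mul_smul, hb]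
  have hgens := closRec_spec closRows (0 :: oddOrbit) closRows_ok hacc
  refine centralizer_subH fun g hg => ?_
  induction hg using Subgroup.closure_induction with
  | mem z hz =>
    obtain ⟨x, hx, rfl⟩ := hz
    have e := letters_trp x (gensH_lt x hx).le
    rw [let'] at e
    rw [e]
    exact ((commute_trp_iff t _).2 (hgens x hx)).symm
  | one => exact Commute.one_left t
  | mul u v _ _ hu hv => exact hu.mul_left hv
  | inv u _ hu => exact hu.inv_left

theorem thirteen_fixes : thirteen • pt0 = pt0 ∧ thirteen • gpt 7 = gpt 7 :=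
  ⟨Fin.ext ((thirteen_smul pt0).trans thirteen_cycles.2.2.1),
    Fin.ext ((thirteen_smul _).trans thirteen_cycles.2.2.2.1)⟩

/-- An involution commuting with the element is a transposition. -/
theorem isTrp_of_commute {t : Gp} (ht : t * t = 1) (ht1 : t ≠ 1) (htx : Commute t thirteen) :
    ∃ p : Pt, t = trp p := by
  have hz : Commute thirteen zee := (commute_zee_iff _).2 thirteen_fixes.1
  have h7 : Commute thirteen (let' 7) := by
    rw [letters_trp 7 (by decide)]
    exact (commute_trp_iff _ _).2 thirteen_fixes.2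
  have hbelow : ∀ y ∈ [10, 7, 10, 7], y < ActF.act.K := by decide +kernel
  let y : Gp := zee * let' 7
  have hy : Commute thirteen y := hz.mul_right h7
  have e7 : el [10, 7] = y := by simp [el, ev, zee, let', y]
  have hy1 : ((y • pt0 : Pt) : ℕ) = 8006 := by
    rw [← e7]
    exact (el_smul pts_steps.1 pt0).trans thirteen_cycles.2.2.2.2.1
  have hy2 : (((y * y) • pt0 : Pt) : ℕ) = 1 := by
    rw [show y * y = el [10, 7, 10, 7] by simp [el, ev, zee, let', y, mul_assoc]]
    exact (el_smul hbelow pt0).trans thirteen_cycles.2.2.2.2.2.1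
  have hcyc : ∀ c : Pt, thirteen • c = c → ∃ z : Gp, Commute thirteen z ∧ z • pt0 = c := by
    intro c hc
    rcases fixed_three c hc with h | h | h
    · exact ⟨1, Commute.one_right _, by rw [one_smul]; exact Fin.ext h.symm⟩
    · exact ⟨y * y, hy.mul_right hy, Fin.ext (hy2.trans h.symm)⟩
    · exact ⟨y, hy, Fin.ext (hy1.trans h.symm)⟩
  have hfix : ∀ c : Pt, thirteen • c = c → thirteen • (t • c) = t • c := fun c hc => by
    rw [← mul_smul, ← htx.eq, mul_smul, hc]
  obtain ⟨c, hc, htc⟩ : ∃ c : Pt, thirteen • c = c ∧ t • c = c := by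
    by_contra hne
    push Not at hne
    have e0 := thirteen_fixes.1
    have e1 : thirteen • (y • pt0) = y • pt0 := by rw [← mul_smul, hy.eq, mul_smul, e0]
    have e2 : thirteen • ((y * y) • pt0) = (y * y) • pt0 := by rw [← mul_smul, (hy.mul_right hy).eq, mul_smul, e0]
    have key : ∀ c : Pt, thirteen • c = c → ((t • c : Pt) : ℕ) ≠ c ∧
        (((t • c : Pt) : ℕ) = 0 ∨ ((t • c : Pt) : ℕ) = 1 ∨ ((t • c : Pt) : ℕ) = 8006) :=
      fun c hc => ⟨fun e => hne c hc (Fin.ext e), fixed_three _ (hfix c hc)⟩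
    have inj : ∀ c d : Pt, ((t • c : Pt) : ℕ) = (d : ℕ) → ((t • d : Pt) : ℕ) = c := fun c d e => by
      rw [← (Fin.ext e : t • c = d), ← mul_smul, ht, one_smul]
    have h00 : ((pt0 : Pt) : ℕ) = 0 := rfl
    obtain ⟨n0, k0⟩ := key _ e0
    obtain ⟨n1, k1⟩ := key _ e1
    obtain ⟨n2, k2⟩ := key _ e2
    have i01 := inj pt0 (y • pt0)
    have i02 := inj pt0 ((y * y) • pt0)
    have i12 := inj (y • pt0) ((y * y) • pt0)
    have i10 := inj (y • pt0) pt0
    have i20 := inj ((y * y) • pt0) pt0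
    have i21 := inj ((y * y) • pt0) (y • pt0)
    omega
  obtain ⟨z, hzx, rfl⟩ := hcyc c hc
  refine ⟨z • pt0, ?_⟩
  have h1 : (z⁻¹ * t * z) * (z⁻¹ * t * z) = 1 := by
    rw [show z⁻¹ * t * z * (z⁻¹ * t * z) = z⁻¹ * (t * t) * z by group, ht, mul_one, inv_mul_cancel]
  have h2 : (z⁻¹ * t * z) • pt0 = pt0 := by rw [mul_smul, mul_smul, htc, inv_smul_smul]
  have h3 : Commute (z⁻¹ * t * z) thirteen :=
    ((hzx.inv_right.symm).mul_left htx).mul_left hzx.symm
  rcases eq_zee h1 h3 h2 with h | h
  · exact absurd (by rw [show t = z * (z⁻¹ * t * z) * z⁻¹ by group, h, mul_one, mul_inv_cancel]) ht1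
  · rw [trp_eq (g := z) rfl, ← h]; group

theorem card_gp_factor : (Nat.card Gp).factorization 13 = 1 := by
  rw [card_eq, show (4089470473293004800 : ℕ) = 13 * 314574651791769600 by norm_num,
    Nat.factorization_mul (by norm_num) (by norm_num), Finsupp.add_apply,
    Nat.Prime.factorization_self (by norm_num), Nat.factorization_eq_zero_of_not_dvd (by norm_num)]

/-- An involution whose centralizer has order divisible by thirteen is a transposition. -/
theorem isTrp_of_thirteen {t : Gp} (ht : t * t = 1) (ht1 : t ≠ 1)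
    (h13 : 13 ∣ Nat.card (Subgroup.centralizer ({t} : Set Gp))) : ∃ p : Pt, t = trp p := by
  have : Finite Gp := Nat.finite_of_card_ne_zero card_le.1
  have : Fact (Nat.Prime 13) := ⟨by norm_num⟩
  obtain ⟨⟨s, hs⟩, hso⟩ := exists_prime_orderOf_dvd_card' 13 h13
  have hso' : orderOf s = 13 := by rw [← hso, ← Subgroup.orderOf_coe]
  have hcard : ∀ u : Gp, orderOf u = 13 → Nat.card (Subgroup.zpowers u) = 13 ^ (Nat.card Gp).factorization 13 :=
    fun u hu => by rw [Nat.card_zpowers, hu, card_gp_factor, pow_one]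
  obtain ⟨g, hg⟩ := MulAction.exists_smul_eq Gp (Sylow.ofCard _ (hcard _ orderOf_thirteen))
    (Sylow.ofCard _ (hcard _ hso'))
  have hg' : MulAut.conj g • Subgroup.zpowers thirteen = Subgroup.zpowers s := congrArg Sylow.toSubgroup hg
  have hmem : g * thirteen * g⁻¹ ∈ Subgroup.zpowers s := by
    rw [← hg']
    exact Subgroup.smul_mem_pointwise_smul _ _ _ (Subgroup.mem_zpowers thirteen)
  obtain ⟨k, hk⟩ := hmem
  have hts : Commute t (g * thirteen * g⁻¹) := by
    rw [← hk]
    exact (show Commute t s from (Subgroup.mem_centralizer_singleton_iff.1 hs).symm).zpow_right k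
  have h3 : Commute (g⁻¹ * t * g) thirteen := by
    show g⁻¹ * t * g * thirteen = thirteen * (g⁻¹ * t * g)
    calc g⁻¹ * t * g * thirteen = g⁻¹ * (t * (g * thirteen * g⁻¹)) * g := by group
      _ = thirteen * (g⁻¹ * t * g) := by rw [hts.eq]; group
  obtain ⟨p, hp⟩ := isTrp_of_commute (t := g⁻¹ * t * g)
    (by rw [show g⁻¹ * t * g * (g⁻¹ * t * g) = g⁻¹ * (t * t) * g by group, ht, mul_one, inv_mul_cancel])
    (fun h => ht1 (by rw [show t = g * (g⁻¹ * t * g) * g⁻¹ by group, h, mul_one, mul_inv_cancel])) h3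
  exact ⟨g • p, by rw [← conj_trp, ← hp]; group⟩

end

end CfsgLib.Spor.Fi23Out
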