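/-
Every automorphism of the presented group on ten generators is inner.
-/
import Cfsg.Agent.Lib.Spor.Fi23Out.Thirteen
import Cfsg.Agent.Lib.Spor.Fi23Out.Step0
import Cfsg.Agent.Lib.Spor.Fi23Out.Step1
import Cfsg.Agent.Lib.Spor.Fi23Out.Step2
import Cfsg.Agent.Lib.Spor.Fi23Out.Step3
import Cfsg.Agent.Lib.Spor.Fi23Out.Last
import Cfsg.Prelude.Def_KGroupFacts

set_option autoImplicit false

namespace CfsgLib.Spor.Fi23Out

open CfsgLib.Spor.TC CfsgLib.Spor.Fi23 MulAction

noncomputable section

attribute [local instance] actionF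

/-- The test that a candidate for the last generator on the arm lies in the long suborbit. -/
def scanJ (q : ℕ) : Bool := !cand [10] 7 q || ActF.part1.memB q

theorem scanJ_0 : allFrom scanJ 0 8000 = true := by decide +kernel
theorem scanJ_1 : allFrom scanJ 8000 8000 = true := by decide +kernel
theorem scanJ_2 : allFrom scanJ 16000 8000 = true := by decide +kernel
theorem scanJ_3 : allFrom scanJ 24000 7671 = true := by decide +kernel

theorem transJ (q : Pt) (hq : cand [10] 7 q = true) : ∃ g : Gp, Keeps g [10] ∧ g • gpt 7 = q := by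
  have hmem : ActF.part1 ∈ ActF.parts := List.mem_cons_of_mem _ List.mem_cons_self
  obtain ⟨hgens, hok⟩ := parts_gens _ hmem
  obtain ⟨b, -, hiff, -⟩ := orbit_eq_level (g := ActF.act.letters relsG) ActF.part1
    (fun y hy c => ActF.valid.action_apply hy c) hok
  rw [hgens] at hiff
  have h := split_scan scanJ_0 scanJ_1 scanJ_2 scanJ_3 q q.2
  simp only [scanJ, hq, Bool.not_true, Bool.false_or] at h
  have h7 : ActF.part1.memB (gpt 7 : Pt) = true := by decide +kernel
  have e1 := (hiff q).2 h
  rw [← orbit_eq_iff.2 ((hiff (gpt 7)).2 h7)] at e1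
  obtain ⟨⟨g, hg⟩, hgq⟩ := e1
  refine ⟨g, fun y hy => ?_, hgq⟩
  rw [List.mem_singleton.1 hy, show gpt 10 = pt0 from Fin.ext pts_steps.2.2.1]
  exact (mem_subH_iff g).1 hg

/-- Two candidates are related as the generators are. -/
def compat (x y qx qy : ℕ) : Bool :=
  !Nat.beq qx qy && (com qx qy == Nat.beq (ActF.act.T x (ptN y)) (ptN y))

/-- Every tuple of candidates with the pattern of the generators is listed. -/
def finalCheck : Bool :=
  cands4.all fun a => cands5.all fun b => !compat 4 5 a b || cands6.all fun c =>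
    !(compat 4 6 a c && compat 5 6 b c) || cands8.all fun d =>
      !(compat 4 8 a d && compat 5 8 b d && compat 6 8 c d) || cands9.all fun e =>
        !(compat 4 9 a e && compat 5 9 b e && compat 6 9 c e && compat 8 9 d e) ||
          (finalRows.map Prod.snd).any fun l => beqWord l [a, b, c, d, e]

/-- A product of transpositions, acting. -/
def prodAct (ks : List ℕ) (c : ℕ) : ℕ :=
  List.rec (motive := fun _ => ℕ) c
    (fun i _ ih => ActF.act.wact (gensF.getD i [] ++ 10 :: (gensF.getD i []).reverse) ih) ks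

theorem final_ok : finalCheck = true := by decide +kernel

theorem final_rows_ok : gensF.all (genOK preF) = true ∧
    (∀ row ∈ finalRows, (∀ i ∈ row.1, i < gensF.length) ∧
      [4, 5, 6, 8, 9].map (fun x => prodAct row.1 (ptN x)) = row.2) ∧
    (∀ q ∈ cands4 ++ cands5 ++ cands6 ++ cands8 ++ cands9, rooted q = true) := by decide +kernel

theorem prod_spec : ∀ (ks : List ℕ), (∀ i ∈ ks, i < gensF.length) →
    ∃ g : Gp, Keeps g preF ∧ ∀ c : Pt, ((g • c : Pt) : ℕ) = prodAct ks c := by
  intro ks
  induction ks with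
  | nil => exact fun _ => ⟨1, keeps_one _, fun c => by rw [one_smul]; rfl⟩
  | cons i ks ih =>
    intro h
    obtain ⟨g, hg, hgc⟩ := ih fun j hj => h j (List.mem_cons_of_mem _ hj)
    have hi := h i List.mem_cons_self
    obtain ⟨d, hd, hdc⟩ := genOK_spec (pre := preF) (by decide) (List.all_eq_true.1 final_rows_ok.1 _ (by
      rw [List.getD_eq_getElem _ _ hi]; exact List.getElem_mem hi) : genOK preF (gensF.getD i []) = true)
    exact ⟨d * g, hd.mul hg, fun c => by rw [mul_smul, hdc, hgc]; rfl⟩

theorem last_step {β : MulAut Gp} (hβ : Fixes β preF) :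
    ∃ g : Gp, Fixes (MulAut.conj g * β) (4 :: 5 :: 6 :: 8 :: 9 :: preF) := by
  have hz : β zee = zee := hβ 10 (by decide)
  have hle : ∀ y ∈ preF, y ≤ 10 := by decide
  choose q hq using fun x => image_trp hz (gpt x)
  have hne : ∀ x ∈ [4, 5, 6, 8, 9], ∀ y ∈ preF, ptN y ≠ ptN x := by decide
  have hc : ∀ x ∈ [4, 5, 6, 8, 9], cand preF x (q x) = true := fun x hx => cand_of_fix hle (hne x hx) hβ (hq x)
  have hscan := fun x : ℕ => scanF_all (q x) (q x).2
  simp only [scanF, candAt, Bool.and_eq_true, Bool.or_eq_true, Bool.not_eq_true'] at hscan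
  have m4 : (q 4 : ℕ) ∈ cands4 := memNat_spec ((hscan 4).1.1.1.1.resolve_left (by rw [hc 4 (by decide)]; decide))
  have m5 : (q 5 : ℕ) ∈ cands5 := memNat_spec ((hscan 5).1.1.1.2.resolve_left (by rw [hc 5 (by decide)]; decide))
  have m6 : (q 6 : ℕ) ∈ cands6 := memNat_spec ((hscan 6).1.1.2.resolve_left (by rw [hc 6 (by decide)]; decide))
  have m8 : (q 8 : ℕ) ∈ cands8 := memNat_spec ((hscan 8).1.2.resolve_left (by rw [hc 8 (by decide)]; decide))
  have m9 : (q 9 : ℕ) ∈ cands9 := memNat_spec ((hscan 9).2.resolve_left (by rw [hc 9 (by decide)]; decide))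
  have hroot : ∀ x ∈ [4, 5, 6, 8, 9], rooted (q x) = true := by
    simp only [List.mem_cons, List.not_mem_nil, or_false]
    rintro x (rfl | rfl | rfl | rfl | rfl) <;> refine final_rows_ok.2.2 _ ?_ <;>
      simp only [List.mem_append] <;> tauto
  have hcomp : ∀ x y, x ∈ [4, 5, 6, 8, 9] → y ∈ [4, 5, 6, 8, 9] → ptN x ≠ ptN y →
      compat x y (q x) (q y) = true := by
    intro x y hx hy hxy
    simp only [compat, Bool.and_eq_true, Bool.not_eq_true', beq_iff_eq]
    refine ⟨Bool.eq_false_iff.2 fun e => hxy ?_, ?_⟩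
    · have e' : q x = q y := Fin.ext (Nat.eq_of_beq_eq_true e)
      have := hq x
      rw [e', ← hq y] at this
      exact congrArg Fin.val (trp_inj (β.injective this))
    · have hx' : x ≤ 10 := (by decide : ∀ z ∈ [4, 5, 6, 8, 9], z ≤ 10) x hx
      rw [Bool.eq_iff_iff, com_iff (hroot x hx), ← commute_trp_iff, ← hq x, ← hq y]
      constructor
      · intro h
        have h' := (commute_trp_iff _ _).1 (by simpa using h.map β.symm.toMonoidHom : Commute (trp (gpt x)) (trp (gpt y)))
        rw [show ActF.act.T x (ptN y) = ptN y from (letters_fix hx' (gpt y)).2 h']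
        exact Nat.beq_refl _
      · intro h
        have h' := (letters_fix hx' (gpt y)).1 (Nat.eq_of_beq_eq_true h)
        exact ((commute_trp_iff _ _).2 h').map β.toMonoidHom
  have hf := final_ok
  simp only [finalCheck, List.all_eq_true, Bool.or_eq_true, Bool.not_eq_true'] at hf
  have d : ∀ x y, x ∈ [4, 5, 6, 8, 9] → y ∈ [4, 5, 6, 8, 9] → x ≠ y → compat x y (q x) (q y) = true :=
    fun x y hx hy hxy => hcomp x y hx hy
      ((by decide : ∀ a ∈ [4, 5, 6, 8, 9], ∀ b ∈ [4, 5, 6, 8, 9], a ≠ b → ptN a ≠ ptN b) x hx y hy hxy)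
  have h5 := (hf _ m4 _ m5).resolve_left (by rw [d 4 5 (by decide) (by decide) (by decide)]; decide)
  have h6 := (h5 _ m6).resolve_left (by
    rw [d 4 6 (by decide) (by decide) (by decide), d 5 6 (by decide) (by decide) (by decide)]; decide)
  have h8 := (h6 _ m8).resolve_left (by
    rw [d 4 8 (by decide) (by decide) (by decide), d 5 8 (by decide) (by decide) (by decide),
      d 6 8 (by decide) (by decide) (by decide)]
    decide)
  have h9 := (h8 _ m9).resolve_left (by
    rw [d 4 9 (by decide) (by decide) (by decide), d 5 9 (by decide) (by decide) (by decide),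
      d 6 9 (by decide) (by decide) (by decide), d 8 9 (by decide) (by decide) (by decide)]
    decide)
  obtain ⟨l, hl, hbeq⟩ := List.any_eq_true.1 h9
  obtain ⟨row, hrow, rfl⟩ := List.mem_map.1 hl
  obtain ⟨hlt, heq⟩ := final_rows_ok.2.1 row hrow
  rw [beqWord_iff hbeq] at heq
  simp only [List.map_cons, List.map_nil, List.cons.injEq, and_true] at heq
  obtain ⟨g, hg, hgc⟩ := prod_spec row.1 hlt
  refine ⟨g⁻¹, fun y hy => ?_⟩
  have key : ∀ x, x ≤ 10 → prodAct row.1 (ptN x) = q x → (MulAut.conj g⁻¹ * β) (let' x) = let' x := by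
    intro x hx hp
    have e : g • gpt x = q x := Fin.ext ((hgc _).trans hp)
    rw [MulAut.mul_apply, letters_trp x hx, hq, MulAut.conj_apply, conj_trp, ← e, inv_smul_smul]
  simp only [List.mem_cons] at hy
  rcases hy with rfl | rfl | rfl | rfl | rfl | hy
  · exact key 4 (by decide) heq.1
  · exact key 5 (by decide) heq.2.1
  · exact key 6 (by decide) heq.2.2.1
  · exact key 8 (by decide) heq.2.2.2.1
  · exact key 9 (by decide) heq.2.2.2.2
  · exact fixes_conj hle hβ hg y hy

theorem mem_inn_of_fixes {β : MulAut Gp} (h : Fixes β (4 :: 5 :: 6 :: 8 :: 9 :: preF)) : β = 1 := by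
  have hgen : ∀ x, x < 10 → β (presGen ActF.act.k relsG x) = presGen ActF.act.k relsG x := fun x hx => by
    have e := h x ((by decide : ∀ z, z < 10 → z ∈ (4 :: 5 :: 6 :: 8 :: 9 :: preF)) x hx)
    rwa [let', Act.letters_of_lt (show x < ActF.act.k from hx)] at e
  refine MulEquiv.ext fun g => ?_
  have hg : g ∈ Subgroup.closure (presGen ActF.act.k relsG '' Set.Iio ActF.act.k) := by
    rw [closure_presGen]; trivial
  show β g = g
  induction hg using Subgroup.closure_induction with
  | mem z hz => obtain ⟨x, hx, rfl⟩ := hz; exact hgen x hx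
  | one => exact map_one β
  | mul u v _ _ hu hv => rw [map_mul, hu, hv]
  | inv u _ hu => rw [map_inv, hu]

theorem image_zee (α : MulAut Gp) : ∃ p : Pt, α zee = trp p := by
  have hc : Subgroup.centralizer ({α zee} : Set Gp) = subH.map α.toMonoidHom := by
    rw [← centralizer_zee]
    ext u
    rw [Subgroup.mem_map_equiv, Subgroup.mem_centralizer_singleton_iff, Subgroup.mem_centralizer_singleton_iff]
    exact ⟨fun h => α.injective (by simpa using h), fun h => by simpa using congrArg α h⟩
  refine isTrp_of_thirteen (by rw [← map_mul, zee_sq, map_one]) (fun h => zee_ne (α.injective (by rw [h, map_one]))) ?_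
  rw [hc, Subgroup.card_map_of_injective α.injective, card_subH]
  norm_num

theorem all_inner (α : MulAut Gp) : α ∈ Cfsg.Inn Gp := by
  obtain ⟨p, hp⟩ := image_zee α
  obtain ⟨u, rfl⟩ := trans_pt p
  have h0 : Fixes (MulAut.conj u⁻¹ * α) [10] := fun y hy => by
    rw [List.mem_singleton.1 hy]
    show u⁻¹ * α zee * u⁻¹⁻¹ = zee
    rw [hp, trp_eq (g := u) rfl]
    group
  obtain ⟨g1, h1⟩ := fixes_step (x := 7) (by decide) (by decide) (by decide) (by decide) transJ h0
  have h1' : Fixes (MulAut.conj g1 * (MulAut.conj u⁻¹ * α)) [10, 7] := fun y hy =>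
    h1 y ((by decide : ∀ z ∈ [10, 7], z ∈ [7, 10]) y hy)
  obtain ⟨g2, h2⟩ := fixes_step (x := 0) (by decide) (by decide) (by decide) (by decide) trans0 h1'
  obtain ⟨g3, h3⟩ := fixes_step (x := 1) (by decide) (by decide) (by decide) (by decide) trans1 h2
  obtain ⟨g4, h4⟩ := fixes_step (x := 2) (by decide) (by decide) (by decide) (by decide) trans2 h3
  obtain ⟨g5, h5⟩ := fixes_step (x := 3) (by decide) (by decide) (by decide) (by decide) trans3 h4
  obtain ⟨g6, h6⟩ := last_step (β := _) h5
  have e := mem_inn_of_fixes h6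
  refine ⟨(g6 * (g5 * (g4 * (g3 * (g2 * (g1 * u⁻¹))))))⁻¹, ?_⟩
  rw [map_inv]
  refine inv_eq_of_mul_eq_one_right (Eq.trans ?_ e)
  simp only [map_mul, mul_assoc]

theorem card_out : Nat.card (Cfsg.Out Cfsg.Spor.Fi23) = 1 := by
  obtain ⟨e, -⟩ := coxData.exists_equiv (k := ActF.act.k) rfl rels_eq
  have h : ∀ φ : MulAut Cfsg.Spor.Fi23, φ ∈ Cfsg.Inn Cfsg.Spor.Fi23 := fun φ => by
    obtain ⟨g, hg⟩ := all_inner ((e.trans φ).trans e.symm)
    refine ⟨e g, MulEquiv.ext fun y => ?_⟩
    have h1 := congrArg e (DFunLike.congr_fun hg (e.symm y))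
    have h2 : e ((MulAut.conj g : MulAut Gp) (e.symm y)) = e (e.symm (φ (e (e.symm y)))) := h1
    rw [MulAut.conj_apply, map_mul, map_mul, map_inv, e.apply_symm_apply, e.apply_symm_apply] at h2
    rw [MulAut.conj_apply]
    exact h2
  rw [Nat.card_eq_one_iff_unique]
  exact ⟨⟨fun a b => by
    induction a using QuotientGroup.induction_on
    induction b using QuotientGroup.induction_on
    exact QuotientGroup.eq.2 (h _)⟩, ⟨1⟩⟩

end

end CfsgLib.Spor.Fi23Out
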